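import Cfsg.Agent.Lib.Helper77.Kazarin
import Cfsg.Agent.Lib.Helper55.PRed

set_option autoImplicit false

/-!
Consequences of Kazarin's theorem: if the class of `x` has `p`-power size then any two conjugates
of `x` commute modulo `O_p(G)` (Camina–Camina).
-/

namespace Cfsg.Agent.Lib.Helper77

open Cfsg Cfsg.Agent.Lib.Helper55

universe u

section

variable {G : Type u} [Group G] [Finite G] (p : ℕ) [Fact p.Prime]

/-- If `O_p(G) = 1` and the `p`-elements of the normal subgroup `B` commute pairwise, then `B` is a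
`p'`-group. -/
theorem kc_no_p_elts (hO : Cfsg.pCore p G = ⊥) (B : Subgroup G) [hB : B.Normal]
    (hcomm : ∀ b ∈ B, ∀ c ∈ B, (∃ k : ℕ, b ^ (p ^ k) = 1) → (∃ k : ℕ, c ^ (p ^ k) = 1) →
      b * c = c * b) : ¬ p ∣ Nat.card B := by
  let T : Subgroup G :=
    { carrier := {b | b ∈ B ∧ ∃ k : ℕ, b ^ (p ^ k) = 1}
      one_mem' := ⟨one_mem _, 0, one_pow _⟩
      mul_mem' := by
        rintro a b ⟨ha, k, hk⟩ ⟨hb, l, hl⟩
        refine ⟨mul_mem ha hb, k + l, ?_⟩
        have hc : Commute a b := hcomm a ha b hb ⟨k, hk⟩ ⟨l, hl⟩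
        rw [hc.mul_pow, pow_add, pow_mul, hk, one_pow, mul_comm (p ^ k), pow_mul, hl, one_pow,
          one_mul]
      inv_mem' := by
        rintro a ⟨ha, k, hk⟩
        exact ⟨inv_mem ha, k, by rw [inv_pow, hk, inv_one]⟩ }
  have hTn : T.Normal := by
    refine ⟨fun t ht g => ?_⟩
    obtain ⟨htB, k, hk⟩ := ht
    exact ⟨hB.conj_mem t htB g, k, by rw [conj_pow, hk, mul_one, mul_inv_cancel]⟩
  have hTp : IsPGroup p T := by
    rintro ⟨t, -, k, hk⟩
    exact ⟨k, Subtype.ext hk⟩
  have hT : T = ⊥ := by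
    have := le_pCore hTn hTp
    rw [hO] at this
    exact le_bot_iff.mp this
  intro hdvd
  obtain ⟨b, hb⟩ := exists_prime_orderOf_dvd_card' p hdvd
  have hbT : (b : G) ∈ T := by
    refine ⟨b.2, 1, ?_⟩
    rw [pow_one, ← hb, ← Subgroup.orderOf_coe, pow_orderOf_eq_one]
  rw [hT, Subgroup.mem_bot] at hbT
  have hb1 : b = 1 := Subtype.ext hbT
  rw [hb1, orderOf_one] at hb
  exact (Fact.out : p.Prime).one_lt.ne hb

/-- An element with `p`-power class size centralizes every normal `p'`-subgroup. -/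
theorem kc_cent_normal (x : G) (a : ℕ)
    (hx : (Subgroup.centralizer ({x} : Set G)).index = p ^ a) (N : Subgroup G) [N.Normal]
    (hN : ¬ p ∣ Nat.card N) : N ≤ Subgroup.centralizer ({x} : Set G) := by
  rw [← Subgroup.relIndex_eq_one]
  have h1 := Cfsg.Agent.S4354.relIndex_eq_relIndex_sup N (Subgroup.centralizer ({x} : Set G))
  have h2 : (Subgroup.centralizer ({x} : Set G)).relIndex N ∣ p ^ a := by
    rw [h1, ← hx]
    exact Subgroup.relIndex_dvd_index_of_le le_sup_left
  obtain ⟨j, -, hj⟩ := (Nat.dvd_prime_pow (Fact.out : p.Prime)).mp h2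
  have h3 : (Subgroup.centralizer ({x} : Set G)).relIndex N ∣ Nat.card N :=
    Subgroup.relIndex_dvd_card _ _
  rw [hj] at h3 ⊢
  rcases Nat.eq_zero_or_pos j with h0 | hpos
  · rw [h0, pow_zero]
  · exact absurd ((dvd_pow_self p hpos.ne').trans h3) hN

/-- The normal closure of an element with `p`-power class size centralizes every normal
`p'`-subgroup. -/
theorem kc_closure_cent (x : G) (a : ℕ)
    (hx : (Subgroup.centralizer ({x} : Set G)).index = p ^ a) (N : Subgroup G) [N.Normal]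
    (hN : ¬ p ∣ Nat.card N) :
    ∀ u ∈ Subgroup.normalClosure ({x} : Set G), ∀ n ∈ N, n * u = u * n := by
  have hle : Subgroup.normalClosure ({x} : Set G) ≤ Subgroup.centralizer (N : Set G) := by
    rw [Subgroup.normalClosure, Subgroup.closure_le]
    intro z hz
    rw [Group.mem_conjugatesOfSet_iff] at hz
    obtain ⟨y, hy, hyz⟩ := hz
    rw [Set.mem_singleton_iff.mp hy, isConj_iff] at hyz
    obtain ⟨c, rfl⟩ := hyz
    have h1 := kc_cent_normal p (c * x * c⁻¹) a (by rw [kz_index_conj, hx]) N hN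
    show c * x * c⁻¹ ∈ Subgroup.centralizer (N : Set G)
    rw [Subgroup.mem_centralizer_iff]
    intro n hn
    have h2 := h1 hn
    rw [Subgroup.mem_centralizer_iff] at h2
    exact (h2 _ rfl).symm
  intro u hu n hn
  have := hle hu
  rw [Subgroup.mem_centralizer_iff] at this
  exact this n hn

omit [Finite G] in
theorem kc_pow_comm (b c : G) (hb : (b * c * b⁻¹ * c⁻¹) * b = b * (b * c * b⁻¹ * c⁻¹)) :
    ∀ m : ℕ, b ^ m * c * (b ^ m)⁻¹ * c⁻¹ = (b * c * b⁻¹ * c⁻¹) ^ m := by
  intro m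
  induction m with
  | zero => simp
  | succ m ih =>
    have hc : Commute (b * c * b⁻¹ * c⁻¹) b := hb
    calc b ^ (m + 1) * c * (b ^ (m + 1))⁻¹ * c⁻¹
        = b * (b ^ m * c * (b ^ m)⁻¹ * c⁻¹) * b⁻¹ * (b * c * b⁻¹ * c⁻¹) := by
          rw [pow_succ']; group
      _ = b * (b * c * b⁻¹ * c⁻¹) ^ m * b⁻¹ * (b * c * b⁻¹ * c⁻¹) := by rw [ih]
      _ = (b * c * b⁻¹ * c⁻¹) ^ m * (b * c * b⁻¹ * c⁻¹) := by
          rw [← (hc.pow_left m).eq, mul_inv_cancel_right]
      _ = (b * c * b⁻¹ * c⁻¹) ^ (m + 1) := (pow_succ _ _).symm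

/-- If `O_p(G) = 1` and the class of `x` has `p`-power size, then a solvable normal closure of
`x` is abelian. -/
theorem kc_abelian (hO : Cfsg.pCore p G = ⊥) (x : G) (a : ℕ)
    (hx : (Subgroup.centralizer ({x} : Set G)).index = p ^ a)
    (hsol : Group.IsSolvable (Subgroup.normalClosure ({x} : Set G))) :
    ∀ u ∈ Subgroup.normalClosure ({x} : Set G), ∀ v ∈ Subgroup.normalClosure ({x} : Set G),
      u * v = v * u := by
  obtain ⟨M, hMdef⟩ : ∃ M : Subgroup G, M = Subgroup.normalClosure ({x} : Set G) := ⟨_, rfl⟩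
  have hMn : M.Normal := by rw [hMdef]; exact Subgroup.normalClosure_normal
  obtain ⟨D, hD0, hDs⟩ : ∃ D : ℕ → Subgroup G, D 0 = M ∧ ∀ n, D (n + 1) = ⁅D n, D n⁆ :=
    ⟨fun n => Nat.rec M (fun _ H => ⁅H, H⁆) n, rfl, fun _ => rfl⟩
  have hDn : ∀ n, (D n).Normal := by
    intro n
    induction n with
    | zero => rw [hD0]; exact hMn
    | succ n ih => rw [hDs]; exact Subgroup.commutator_normal (D n) (D n)
  have hDle : ∀ n, D n ≤ M := by
    intro n
    induction n with
    | zero => rw [hD0]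
    | succ n ih =>
      rw [hDs]
      have := hDn n
      exact (Subgroup.commutator_le_right (D n) (D n)).trans ih
  have hDmap : ∀ n, (derivedSeries M n).map M.subtype = D n := by
    intro n
    induction n with
    | zero =>
      rw [hD0, derivedSeries_zero, ← MonoidHom.range_eq_map, Subgroup.range_subtype]
    | succ n ih => rw [derivedSeries_succ, Subgroup.map_commutator, ih, hDs]
  have hcent : ∀ (N : Subgroup G), N.Normal → ¬ p ∣ Nat.card N →
      ∀ u ∈ M, ∀ n ∈ N, n * u = u * n := by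
    intro N hNn hN u hu n hn
    rw [hMdef] at hu
    exact kc_closure_cent p x a hx N hN u hu n hn
  -- descent
  have hstep : ∀ n, D (n + 2) = ⊥ → D (n + 1) = ⊥ := by
    intro n hbot
    have hBn := hDn n
    have hAn := hDn (n + 1)
    have hAcomm : ∀ b ∈ D (n + 1), ∀ c ∈ D (n + 1), b * c = c * b := by
      intro b hb c hc
      rw [hDs (n + 1), Subgroup.commutator_eq_bot_iff_le_centralizer] at hbot
      have := hbot hb
      rw [Subgroup.mem_centralizer_iff] at this
      exact (this c hc).symm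
    have hA : ¬ p ∣ Nat.card (D (n + 1)) :=
      kc_no_p_elts p hO (D (n + 1)) (fun b hb c hc _ _ => hAcomm b hb c hc)
    have hBA : ∀ b ∈ D n, ∀ e ∈ D (n + 1), e * b = b * e :=
      fun b hb e he => hcent (D (n + 1)) hAn hA b (hDle n hb) e he
    have hBcomm : ∀ b ∈ D n, ∀ c ∈ D n, (∃ k : ℕ, b ^ (p ^ k) = 1) →
        (∃ k : ℕ, c ^ (p ^ k) = 1) → b * c = c * b := by
      intro b hb c hc ⟨k, hk⟩ _
      have he : b * c * b⁻¹ * c⁻¹ ∈ D (n + 1) := by
        rw [hDs]
        exact Subgroup.commutator_mem_commutator hb hc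
      have h1 := kc_pow_comm b c (hBA b hb _ he) (p ^ k)
      rw [hk, one_mul, inv_one, mul_one, mul_inv_cancel] at h1
      have h2 : orderOf (b * c * b⁻¹ * c⁻¹) ∣ p ^ k := orderOf_dvd_of_pow_eq_one h1.symm
      obtain ⟨j, -, hj⟩ := (Nat.dvd_prime_pow (Fact.out : p.Prime)).mp h2
      have h3 : orderOf (b * c * b⁻¹ * c⁻¹) ∣ Nat.card (D (n + 1)) := by
        have := orderOf_dvd_natCard (⟨b * c * b⁻¹ * c⁻¹, he⟩ : D (n + 1))
        rwa [Subgroup.orderOf_mk] at this
      have hj0 : j = 0 := by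
        by_contra hj0
        apply hA
        rw [hj] at h3
        exact (dvd_pow_self p hj0).trans h3
      rw [hj0, pow_zero, orderOf_eq_one_iff] at hj
      calc b * c = (b * c * b⁻¹ * c⁻¹) * c * b := by group
        _ = c * b := by rw [hj, one_mul]
    have hB : ¬ p ∣ Nat.card (D n) := kc_no_p_elts p hO (D n) hBcomm
    rw [hDs, Subgroup.commutator_eq_bot_iff_le_centralizer]
    intro b hb
    rw [Subgroup.mem_centralizer_iff]
    intro c hc
    exact hcent (D n) hBn hB b (hDle n hb) c hc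
  have hdesc : ∀ n, D (n + 1) = ⊥ → D 1 = ⊥ := by
    intro n
    induction n with
    | zero => exact id
    | succ n ih => exact fun h => ih (hstep n h)
  obtain ⟨n, hn⟩ := (Group.isSolvable_def (G := M)).mp (by rw [hMdef]; exact hsol)
  have hDn0 : D n = ⊥ := by rw [← hDmap, hn, Subgroup.map_bot]
  have hD1 : D 1 = ⊥ := by
    rcases n with _ | n
    · rw [hDs, hDn0]
      exact Subgroup.commutator_bot_left _
    · exact hdesc n hDn0
  rw [hDs, hD0, Subgroup.commutator_eq_bot_iff_le_centralizer] at hD1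
  intro u hu v hv
  rw [← hMdef] at hu hv
  have := hD1 hu
  rw [Subgroup.mem_centralizer_iff] at this
  exact (this v hv).symm

end

end Cfsg.Agent.Lib.Helper77
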