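import Mathlib

/-!
# Index calculus for an "idempotent modulo a subgroup" endomorphism

`ri lam T S` is the index of `S ∩ lam T` in `lam T`, i.e. the order of the image of `lam` on `T / S`
when `lam` induces a map on it.  Used for the Herbrand quotient with operator (job piece DO-HB).
-/

set_option autoImplicit false

namespace Cfsg.Agent.Lib.Helper77.DO

section idx

variable {X : Type*} [AddCommGroup X]

/-- the index `[lam T : lam T ∩ S]` -/
noncomputable def ri (lam : X →+ X) (T S : AddSubgroup X) : ℕ := S.relIndex (T.map lam)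

theorem ri_self (lam : X →+ X) (T : AddSubgroup X) (hT : T.map lam ≤ T) : ri lam T T = 1 := by
  unfold ri
  rw [AddSubgroup.relIndex_eq_one]
  exact hT

/-- multiplicativity in chains `S ≤ T ≤ W` when `lam` is idempotent on `W / S`. -/
theorem ri_mul (lam : X →+ X) (S T W : AddSubgroup X) (hST : S ≤ T) (hTW : T ≤ W)
    (hT : T.map lam ≤ T) (hW : W.map lam ≤ W)
    (hidem : ∀ w ∈ W, lam (lam w) - lam w ∈ S) :
    ri lam W S = ri lam W T * ri lam T S := by
  unfold ri
  set A := W.map lam with hA
  have hTA : T.map lam ≤ A := AddSubgroup.map_mono hTW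
  have key : T ⊓ A = (S ⊓ A) ⊔ T.map lam := by
    apply le_antisymm
    · intro x hx
      obtain ⟨hxT, hxA⟩ := hx
      obtain ⟨w, hw, rfl⟩ := hxA
      have h1 : lam w - lam (lam w) ∈ S ⊓ A := by
        refine ⟨?_, ?_⟩
        · have := S.neg_mem (hidem w hw)
          rwa [neg_sub] at this
        · refine A.sub_mem (AddSubgroup.mem_map_of_mem lam hw) ?_
          exact AddSubgroup.mem_map_of_mem lam (hW (AddSubgroup.mem_map_of_mem lam hw))
      have h2 : lam (lam w) ∈ T.map lam := AddSubgroup.mem_map_of_mem lam hxT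
      have h3 : lam w = (lam w - lam (lam w)) + lam (lam w) := by abel
      rw [h3]
      exact AddSubgroup.add_mem _ (AddSubgroup.mem_sup_left h1) (AddSubgroup.mem_sup_right h2)
    · apply sup_le
      · exact inf_le_inf_right A hST
      · exact le_inf hT hTA
  have e1 : S.relIndex A = (S ⊓ A).relIndex A := (AddSubgroup.inf_relIndex_right S A).symm
  have e2 : (S ⊓ A).relIndex (T ⊓ A) * (T ⊓ A).relIndex A = (S ⊓ A).relIndex A :=
    AddSubgroup.relIndex_mul_relIndex _ _ _ (inf_le_inf_right A hST) inf_le_right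
  have e3 : (T ⊓ A).relIndex A = T.relIndex A := AddSubgroup.inf_relIndex_right T A
  have e4 : (S ⊓ A).relIndex (T ⊓ A) = S.relIndex (T.map lam) := by
    rw [key, AddSubgroup.relIndex_sup_left, ← AddSubgroup.inf_relIndex_right]
    have : S ⊓ A ⊓ T.map lam = S ⊓ T.map lam := by
      rw [inf_assoc, inf_eq_right.mpr hTA]
    rw [this, AddSubgroup.inf_relIndex_right]
  rw [e1, ← e2, e3, e4, mul_comm]

/-- invariance under a `lam`-equivariant map inducing an isomorphism `T1 / S1 ≅ T2 / S2`. -/
theorem ri_transport (lam f : X →+ X) (T1 S1 T2 S2 : AddSubgroup X)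
    (hcomm : ∀ x, f (lam x) = lam (f x)) (hT : T1.map f = T2) (hlamT : T1.map lam ≤ T1)
    (hS : ∀ x ∈ T1, f x ∈ S2 ↔ x ∈ S1) : ri lam T1 S1 = ri lam T2 S2 := by
  unfold ri
  have h1 : T2.map lam = (T1.map lam).map f := by
    rw [← hT, AddSubgroup.map_map, AddSubgroup.map_map]
    congr 1
    ext x
    simp only [AddMonoidHom.comp_apply]
    exact (hcomm x).symm
  rw [h1, ← AddSubgroup.relIndex_comap S2 f (T1.map lam),
    ← AddSubgroup.inf_relIndex_right (S2.comap f), ← AddSubgroup.inf_relIndex_right S1]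
  congr 1
  ext x
  simp only [AddSubgroup.mem_inf, AddSubgroup.mem_comap]
  constructor
  · rintro ⟨h, hx⟩
    exact ⟨(hS x (hlamT hx)).2 h, hx⟩
  · rintro ⟨h, hx⟩
    exact ⟨(hS x (hlamT hx)).1 h, hx⟩

/-- `ri` only depends on `S ∩ lam T`. -/
theorem ri_congr_right (lam : X →+ X) (T S S' : AddSubgroup X) (h : S = S') :
    ri lam T S = ri lam T S' := by rw [h]

end idx

end Cfsg.Agent.Lib.Helper77.DO
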