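import Mathlib
import Cfsg.Agent.Lib.Helper77.DOHBa

/-!
# Bridge: `F_p`-rank of the reduction of an endomorphism = an index
-/

set_option autoImplicit false

open scoped TensorProduct

namespace Cfsg.Agent.Lib.Helper77.DO

/-- multiplication by `p` as an additive endomorphism -/
def pmul {M : Type*} [AddCommGroup M] (p : ℕ) : M →+ M := zsmulAddGroupHom (p : ℤ)

theorem pmul_apply {M : Type*} [AddCommGroup M] (p : ℕ) (x : M) : pmul p x = (p : ℤ) • x := rfl

theorem card_range_baseChange (p : ℕ) [Fact p.Prime] {M : Type*} [AddCommGroup M]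
    [Module.Free ℤ M] [Module.Finite ℤ M] (φ : M →ₗ[ℤ] M) :
    Nat.card (LinearMap.range (φ.baseChange (ZMod p))) =
      (AddMonoidHom.range (pmul p : M →+ M)).relIndex (AddMonoidHom.range φ.toAddMonoidHom) := by
  classical
  let π : M →+ (ZMod p) ⊗[ℤ] M := (TensorProduct.mk ℤ (ZMod p) M 1).toAddMonoidHom
  have hπ : ∀ x, π x = (1 : ZMod p) ⊗ₜ[ℤ] x := fun x => rfl
  have hsurj : Function.Surjective π := by
    intro t
    induction t using TensorProduct.induction_on with
    | zero => exact ⟨0, map_zero _⟩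
    | tmul c x =>
      obtain ⟨n, rfl⟩ := ZMod.intCast_surjective c
      refine ⟨n • x, ?_⟩
      rw [hπ, ← TensorProduct.smul_tmul, zsmul_one]
    | add a b ha hb =>
      obtain ⟨x, rfl⟩ := ha
      obtain ⟨y, rfl⟩ := hb
      exact ⟨x + y, map_add _ _ _⟩
  have hker : π.ker = AddMonoidHom.range (pmul p : M →+ M) := by
    ext x
    rw [AddMonoidHom.mem_ker, AddMonoidHom.mem_range]
    constructor
    · intro hx
      let b := Module.Free.chooseBasis ℤ M
      have hc : ∀ i, (p : ℤ) ∣ b.repr x i := by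
        intro i
        have h1 := congrArg (fun t => (b.baseChange (ZMod p)).repr t i) hx
        simp only [hπ, Module.Basis.baseChange_repr_tmul, map_zero, Finsupp.zero_apply] at h1
        rw [zsmul_one] at h1
        exact (ZMod.intCast_zmod_eq_zero_iff_dvd _ p).1 h1
      choose c hc using hc
      refine ⟨∑ i, c i • b i, ?_⟩
      rw [pmul_apply, Finset.smul_sum]
      conv_rhs => rw [← b.sum_repr x]
      refine Finset.sum_congr rfl fun i _ => ?_
      rw [smul_smul, ← hc i]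
    · rintro ⟨y, rfl⟩
      rw [hπ, pmul_apply, ← TensorProduct.smul_tmul, zsmul_one]
      simp
  have hrange : (LinearMap.range (φ.baseChange (ZMod p)) : Set ((ZMod p) ⊗[ℤ] M)) =
      ((AddMonoidHom.range φ.toAddMonoidHom).map π : Set ((ZMod p) ⊗[ℤ] M)) := by
    ext t
    constructor
    · rintro ⟨s, rfl⟩
      obtain ⟨x, rfl⟩ := hsurj s
      exact ⟨φ x, ⟨x, rfl⟩, by rw [hπ, hπ, LinearMap.baseChange_tmul]⟩
    · rintro ⟨_, ⟨x, rfl⟩, rfl⟩
      refine ⟨π x, ?_⟩
      rw [hπ, LinearMap.baseChange_tmul]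
      rfl
  rw [← hker, AddSubgroup.relIndex_ker]
  have e1 : Nat.card (LinearMap.range (φ.baseChange (ZMod p))) =
      (LinearMap.range (φ.baseChange (ZMod p)) : Set ((ZMod p) ⊗[ℤ] M)).ncard :=
    Nat.card_coe_set_eq _
  have e2 : Nat.card ((AddMonoidHom.range φ.toAddMonoidHom).map π) =
      ((AddMonoidHom.range φ.toAddMonoidHom).map π : Set ((ZMod p) ⊗[ℤ] M)).ncard :=
    Nat.card_coe_set_eq _
  rw [e1, e2, hrange]

theorem card_range_baseChange_restrict (p : ℕ) [Fact p.Prime] {X : Type*} [AddCommGroup X]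
    [Module.Free ℤ X] [Module.Finite ℤ X] (L : Submodule ℤ X) (lam : X →ₗ[ℤ] X)
    (hL : ∀ x ∈ L, lam x ∈ L) :
    Nat.card (LinearMap.range ((lam.restrict hL).baseChange (ZMod p))) =
      ri lam.toAddMonoidHom L.toAddSubgroup (L.toAddSubgroup.map (pmul p)) := by
  rw [card_range_baseChange]
  unfold ri
  rw [← AddSubgroup.relIndex_map_map_of_injective _ _ (f := L.subtype.toAddMonoidHom)
    Subtype.val_injective]
  congr 1
  · ext x
    constructor
    · rintro ⟨_, ⟨y, rfl⟩, rfl⟩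
      exact ⟨y.1, y.2, rfl⟩
    · rintro ⟨y, hy, rfl⟩
      exact ⟨pmul p ⟨y, hy⟩, ⟨⟨y, hy⟩, rfl⟩, rfl⟩
  · ext x
    constructor
    · rintro ⟨_, ⟨y, rfl⟩, rfl⟩
      exact ⟨y.1, y.2, rfl⟩
    · rintro ⟨y, hy, rfl⟩
      exact ⟨_, ⟨⟨y, hy⟩, rfl⟩, rfl⟩

end Cfsg.Agent.Lib.Helper77.DO
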