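import Mathlib
import Cfsg.Agent.Lib.Helper22.TA0

/-!
# Operator identities for the Herbrand quotient with operator (job piece DO-HB)
-/

set_option autoImplicit false

namespace Cfsg.Agent.Lib.Helper77.DO

open Cfsg.Agent.Lib.Helper22.TA

/-- `1 + T + ... + T^(p-1) = (T-1)^(p-1) + p (1 + (T-1) w1)` in `ℤ[T]`. -/
theorem geom_poly (p : ℕ) [hp : Fact p.Prime] : ∃ w1 : Polynomial ℤ,
    (∑ i ∈ Finset.range p, (Polynomial.X : Polynomial ℤ) ^ i) =
      (Polynomial.X - 1) ^ (p - 1) + Polynomial.C (p : ℤ) * (1 + (Polynomial.X - 1) * w1) := by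
  have hp' : p.Prime := hp.out
  have hp1 : p - 1 + 1 = p := Nat.sub_add_cancel hp'.one_le
  set g : Polynomial ℤ := (∑ i ∈ Finset.range p, (Polynomial.X : Polynomial ℤ) ^ i) -
    (Polynomial.X - 1) ^ (p - 1) with hg
  have hmap : Polynomial.map (Int.castRingHom (ZMod p)) g = 0 := by
    rw [hg, Polynomial.map_sub, Polynomial.map_sum, Polynomial.map_pow, Polynomial.map_sub,
      Polynomial.map_X, Polynomial.map_one]
    simp only [Polynomial.map_pow, Polynomial.map_X]
    have h1 : ((Polynomial.X : Polynomial (ZMod p)) - 1) *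
        ∑ i ∈ Finset.range p, (Polynomial.X : Polynomial (ZMod p)) ^ i =
        ((Polynomial.X : Polynomial (ZMod p)) - 1) * (Polynomial.X - 1) ^ (p - 1) := by
      rw [mul_geom_sum, ← pow_succ', hp1, sub_pow_char, one_pow]
    have h2 : ((Polynomial.X : Polynomial (ZMod p)) - 1) ≠ 0 := by
      have := Polynomial.X_sub_C_ne_zero (1 : ZMod p)
      rwa [Polynomial.C_1] at this
    rw [mul_left_cancel₀ h2 h1, sub_self]
  have hdvd : Polynomial.C (p : ℤ) ∣ g := by
    rw [Polynomial.C_dvd_iff_dvd_coeff]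
    intro i
    have h1 := congrArg (fun f => Polynomial.coeff f i) hmap
    simp only [Polynomial.coeff_map, Polynomial.coeff_zero] at h1
    exact (ZMod.intCast_zmod_eq_zero_iff_dvd _ p).1 h1
  obtain ⟨w, hw⟩ := hdvd
  have hev : Polynomial.eval 1 g = (p : ℤ) := by
    rw [hg, Polynomial.eval_sub, Polynomial.eval_finsetSum]
    simp only [Polynomial.eval_pow, Polynomial.eval_X, one_pow, Finset.sum_const,
      Finset.card_range, Polynomial.eval_sub, Polynomial.eval_one, sub_self]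
    rw [zero_pow (by have := hp'.two_le; omega)]
    simp
  have hw1 : Polynomial.eval 1 w = 1 := by
    rw [hw, Polynomial.eval_mul, Polynomial.eval_C] at hev
    have hp0 : (p : ℤ) ≠ 0 := by exact_mod_cast hp'.ne_zero
    have : (p : ℤ) * Polynomial.eval 1 w = (p : ℤ) * 1 := by rw [hev, mul_one]
    exact mul_left_cancel₀ hp0 this
  obtain ⟨w1, hw1'⟩ := Polynomial.X_sub_C_dvd_sub_C_eval (a := (1 : ℤ)) (p := w)
  rw [hw1, Polynomial.C_1] at hw1'
  refine ⟨w1, ?_⟩
  have : w = 1 + (Polynomial.X - 1) * w1 := by rw [← hw1']; ring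
  rw [← this, ← hw, hg]
  ring

variable {X : Type*} [AddCommGroup X]

theorem nrm_mul_D (p : ℕ) (σ : X →ₗ[ℤ] X) (hσ : σ ^ p = 1) : nrm p σ * (σ - 1) = 0 := by
  unfold nrm
  rw [geom_sum_mul, hσ, sub_self]

theorem D_mul_nrm (p : ℕ) (σ : X →ₗ[ℤ] X) (hσ : σ ^ p = 1) : (σ - 1) * nrm p σ = 0 := by
  unfold nrm
  rw [mul_geom_sum, hσ, sub_self]

/-- the operator identity `N = D^(p-1) + p (1 + D W1)` with `W1` a polynomial in `σ`. -/
theorem exists_W1 (p : ℕ) [Fact p.Prime] (σ : X →ₗ[ℤ] X) :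
    ∃ W1 : X →ₗ[ℤ] X, W1 * σ = σ * W1 ∧
      nrm p σ = (σ - 1) ^ (p - 1) + (p : ℤ) • (1 + (σ - 1) * W1) := by
  obtain ⟨w1, hw1⟩ := geom_poly p
  refine ⟨Polynomial.aeval σ w1, ?_, ?_⟩
  · have h := congrArg (Polynomial.aeval σ) (mul_comm w1 Polynomial.X)
    rwa [map_mul, map_mul, Polynomial.aeval_X] at h
  · have h := congrArg (Polynomial.aeval σ) hw1
    rw [map_sum, map_add, map_pow, map_sub, map_mul, map_add, map_mul, map_sub, map_one,
      Polynomial.aeval_X, Polynomial.aeval_C] at h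
    simp only [map_pow, Polynomial.aeval_X] at h
    unfold nrm
    rw [h, Algebra.algebraMap_eq_smul_one, smul_mul_assoc, one_mul]

end Cfsg.Agent.Lib.Helper77.DO
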