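import Mathlib
import Cfsg.Agent.Lib.Helper22.TA0
import Cfsg.Agent.Lib.Helper77.DOHBc

/-!
# Elementwise facts for the Herbrand quotient with operator (job piece DO-HB)
-/

set_option autoImplicit false

namespace Cfsg.Agent.Lib.Helper77.DO

open Cfsg.Agent.Lib.Helper22.TA

variable {X : Type*} [AddCommGroup X]

/-- the standing hypotheses, elementwise -/
structure HCtx (p : ℕ) (σ lam mu : X →ₗ[ℤ] X) (k : ℕ) : Prop where
  hp : p.Prime
  hσ : σ ^ p = 1
  hk : 1 ≤ k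
  hcomm : ∀ x, lam (σ x) = σ (lam x)
  hidem : ∀ x, lam (lam x) - lam x = ((p : ℤ) ^ k) • mu x
  tf : ∀ x : X, (p : ℤ) • x = 0 → x = 0

namespace HCtx

variable {p : ℕ} {σ lam mu : X →ₗ[ℤ] X} {k : ℕ}

theorem tf_pow (h : HCtx p σ lam mu k) (n : ℕ) (x : X) (hx : ((p : ℤ) ^ n) • x = 0) : x = 0 := by
  induction n generalizing x with
  | zero => simpa using hx
  | succ n ih =>
    apply ih
    apply h.tf
    rw [smul_smul, ← pow_succ']
    exact hx

theorem pow_fix (_h : HCtx p σ lam mu k) {v : X} (hv : v ∈ fixS σ) (i : ℕ) : (σ ^ i) v = v := by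
  induction i with
  | zero => simp
  | succ i ih => rw [pow_succ, Module.End.mul_apply, mem_fixS.1 hv, ih]

theorem N_fix (h : HCtx p σ lam mu k) {v : X} (hv : v ∈ fixS σ) : nrm p σ v = (p : ℤ) • v := by
  rw [nrm_apply, Finset.sum_congr rfl fun i _ => h.pow_fix hv i, Finset.sum_const,
    Finset.card_range]
  simp

theorem ND (h : HCtx p σ lam mu k) (x : X) : nrm p σ (σ x - x) = 0 := by
  have := congrArg (fun f : X →ₗ[ℤ] X => f x) (nrm_mul_D p σ h.hσ)
  simpa [Module.End.mul_apply] using this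

theorem DN (h : HCtx p σ lam mu k) (x : X) : nrm p σ x ∈ fixS σ := by
  have := congrArg (fun f : X →ₗ[ℤ] X => f x) (D_mul_nrm p σ h.hσ)
  rw [mem_fixS]
  simp only [Module.End.mul_apply, LinearMap.sub_apply, Module.End.one_apply,
    LinearMap.zero_apply] at this
  exact sub_eq_zero.1 this

theorem imN_le_fix (h : HCtx p σ lam mu k) : imN p σ ≤ fixS σ := by
  intro v hv
  obtain ⟨w, rfl⟩ := mem_imN.1 hv
  exact h.DN w

theorem imD_le_ker (h : HCtx p σ lam mu k) : imD σ ≤ kerN p σ := by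
  intro v hv
  obtain ⟨w, rfl⟩ := mem_imD.1 hv
  exact mem_kerN.2 (h.ND w)

theorem fix_ker_zero (h : HCtx p σ lam mu k) {v : X} (hv : v ∈ fixS σ) (hv' : v ∈ kerN p σ) :
    v = 0 := by
  apply h.tf
  rw [← h.N_fix hv]
  exact mem_kerN.1 hv'

theorem lam_pow (h : HCtx p σ lam mu k) (i : ℕ) (x : X) : lam ((σ ^ i) x) = (σ ^ i) (lam x) := by
  induction i generalizing x with
  | zero => simp
  | succ i ih => rw [pow_succ, Module.End.mul_apply, ih, Module.End.mul_apply, h.hcomm]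

theorem lam_N (h : HCtx p σ lam mu k) (x : X) : lam (nrm p σ x) = nrm p σ (lam x) := by
  rw [nrm_apply, nrm_apply, map_sum]
  exact Finset.sum_congr rfl fun i _ => h.lam_pow i x

theorem mu_σ (h : HCtx p σ lam mu k) (x : X) : mu (σ x) = σ (mu x) := by
  have h1 := h.hidem (σ x)
  have h2 := congrArg σ (h.hidem x)
  rw [h.hcomm, h.hcomm, ← map_sub, h2, map_smul] at h1
  have h3 : ((p : ℤ) ^ k) • (mu (σ x) - σ (mu x)) = 0 := by
    rw [smul_sub, ← h1, sub_self]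
  exact sub_eq_zero.1 (h.tf_pow k _ h3)

theorem mu_pow (h : HCtx p σ lam mu k) (i : ℕ) (x : X) : mu ((σ ^ i) x) = (σ ^ i) (mu x) := by
  induction i generalizing x with
  | zero => simp
  | succ i ih => rw [pow_succ, Module.End.mul_apply, ih, Module.End.mul_apply, h.mu_σ]

theorem mu_N (h : HCtx p σ lam mu k) (x : X) : mu (nrm p σ x) = nrm p σ (mu x) := by
  rw [nrm_apply, nrm_apply, map_sum]
  exact Finset.sum_congr rfl fun i _ => h.mu_pow i x

theorem lam_fix (h : HCtx p σ lam mu k) {v : X} (hv : v ∈ fixS σ) : lam v ∈ fixS σ := by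
  rw [mem_fixS] at hv ⊢
  rw [← h.hcomm, hv]

theorem mu_fix (h : HCtx p σ lam mu k) {v : X} (hv : v ∈ fixS σ) : mu v ∈ fixS σ := by
  rw [mem_fixS] at hv ⊢
  rw [← h.mu_σ, hv]

theorem lam_ker (h : HCtx p σ lam mu k) {v : X} (hv : v ∈ kerN p σ) : lam v ∈ kerN p σ := by
  rw [mem_kerN] at hv ⊢
  rw [← h.lam_N, hv, map_zero]

theorem mu_ker (h : HCtx p σ lam mu k) {v : X} (hv : v ∈ kerN p σ) : mu v ∈ kerN p σ := by
  rw [mem_kerN] at hv ⊢
  rw [← h.mu_N, hv, map_zero]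

theorem lam_imN (h : HCtx p σ lam mu k) {v : X} (hv : v ∈ imN p σ) : lam v ∈ imN p σ := by
  obtain ⟨w, rfl⟩ := mem_imN.1 hv
  exact mem_imN.2 ⟨lam w, (h.lam_N w).symm⟩

theorem lam_imD (h : HCtx p σ lam mu k) {v : X} (hv : v ∈ imD σ) : lam v ∈ imD σ := by
  obtain ⟨w, rfl⟩ := mem_imD.1 hv
  exact mem_imD.2 ⟨lam w, by rw [map_sub, h.hcomm]⟩

theorem D_apply (σ : X →ₗ[ℤ] X) (x : X) : (σ - 1) x = σ x - x := by
  rw [LinearMap.sub_apply, Module.End.one_apply]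

theorem D_ker (h : HCtx p σ lam mu k) {y : X} (hy : y ∈ kerN p σ) : (σ - 1) y ∈ kerN p σ := by
  rw [D_apply]
  exact h.imD_le_ker (mem_imD.2 ⟨y, rfl⟩)

theorem Dpow_ker (h : HCtx p σ lam mu k) (j : ℕ) {y : X} (hy : y ∈ kerN p σ) :
    ((σ - 1) ^ j) y ∈ kerN p σ := by
  induction j with
  | zero => simpa using hy
  | succ j ih =>
    rw [pow_succ', Module.End.mul_apply]
    exact h.D_ker ih

theorem D_inj (h : HCtx p σ lam mu k) {y : X} (hy : y ∈ kerN p σ) (h0 : (σ - 1) y = 0) :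
    y = 0 := by
  rw [D_apply, sub_eq_zero] at h0
  exact h.fix_ker_zero (mem_fixS.2 h0) hy

theorem Dpow_inj (h : HCtx p σ lam mu k) (j : ℕ) {y : X} (hy : y ∈ kerN p σ)
    (h0 : ((σ - 1) ^ j) y = 0) : y = 0 := by
  induction j with
  | zero => simpa using h0
  | succ j ih =>
    rw [pow_succ', Module.End.mul_apply] at h0
    exact ih (h.D_inj (h.Dpow_ker j hy) h0)

theorem lam_D (h : HCtx p σ lam mu k) (x : X) : lam ((σ - 1) x) = (σ - 1) (lam x) := by
  rw [D_apply, D_apply, map_sub, h.hcomm]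

theorem lam_Dpow (h : HCtx p σ lam mu k) (j : ℕ) (x : X) :
    lam (((σ - 1) ^ j) x) = ((σ - 1) ^ j) (lam x) := by
  induction j generalizing x with
  | zero => simp
  | succ j ih => rw [pow_succ, Module.End.mul_apply, ih, Module.End.mul_apply, h.lam_D]

/-- the key identity on `ker N`. -/
theorem exists_W1' (h : HCtx p σ lam mu k) :
    ∃ W1 : X →ₗ[ℤ] X, (∀ y ∈ kerN p σ, W1 y ∈ kerN p σ) ∧
      ∀ y ∈ kerN p σ, ((σ - 1) ^ (p - 1)) y + (p : ℤ) • (y + (σ - 1) (W1 y)) = 0 := by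
  haveI : Fact p.Prime := ⟨h.hp⟩
  obtain ⟨W1, hW, hN⟩ := exists_W1 p σ
  have hc : Commute W1 σ := hW
  have hcN : Commute W1 (nrm p σ) := by
    unfold nrm
    exact Commute.sum_right _ _ _ fun i _ => hc.pow_right i
  refine ⟨W1, ?_, ?_⟩
  · intro y hy
    rw [mem_kerN] at hy ⊢
    have := congrArg (fun f : X →ₗ[ℤ] X => f y) hcN.eq
    simp only [Module.End.mul_apply] at this
    rw [← this, hy, map_zero]
  · intro y hy
    have := congrArg (fun f : X →ₗ[ℤ] X => f y) hN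
    simp only [LinearMap.add_apply, LinearMap.smul_apply, Module.End.mul_apply,
      Module.End.one_apply] at this
    rw [← this]
    exact mem_kerN.1 hy

theorem Dpow_le_p (h : HCtx p σ lam mu k) {y : X} (hy : y ∈ kerN p σ) :
    ∃ y' ∈ kerN p σ, ((σ - 1) ^ (p - 1)) y = (p : ℤ) • y' := by
  obtain ⟨W1, hW, hid⟩ := h.exists_W1'
  refine ⟨-(y + (σ - 1) (W1 y)), ?_, ?_⟩
  · exact (kerN p σ).neg_mem ((kerN p σ).add_mem hy (h.D_ker (hW y hy)))
  · rw [smul_neg]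
    exact eq_neg_of_add_eq_zero_left (hid y hy)

theorem p_le_Dpow_aux (h : HCtx p σ lam mu k) (n : ℕ) : ∀ m : ℕ, m + n = p - 1 →
    ∀ y ∈ kerN p σ, ∃ y' ∈ kerN p σ, (p : ℤ) • (((σ - 1) ^ m) y) = ((σ - 1) ^ (p - 1)) y' := by
  obtain ⟨W1, hW, hid⟩ := h.exists_W1'
  induction n with
  | zero =>
    intro m hm y hy
    have hm' : m = p - 1 := by omega
    subst hm'
    exact ⟨(p : ℤ) • y, (kerN p σ).smul_mem _ hy, by rw [map_smul]⟩
  | succ n ih =>
    intro m hm y hy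
    obtain ⟨y1, hy1, e1⟩ := ih (m + 1) (by omega) (W1 y) (hW y hy)
    have e2 : (p : ℤ) • y = -(((σ - 1) ^ (p - 1)) y) - (p : ℤ) • ((σ - 1) (W1 y)) := by
      have := hid y hy
      rw [smul_add] at this
      rw [← sub_eq_zero]
      rw [← this]
      abel
    refine ⟨-(((σ - 1) ^ m) y) - y1, ?_, ?_⟩
    · exact (kerN p σ).sub_mem ((kerN p σ).neg_mem (h.Dpow_ker m hy)) hy1
    · rw [← map_smul, e2, map_sub, map_neg, map_sub, map_neg, map_smul, ← e1]
      have c1 : ((σ - 1) ^ m) (((σ - 1) ^ (p - 1)) y) = ((σ - 1) ^ (p - 1)) (((σ - 1) ^ m) y) := by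
        rw [← Module.End.mul_apply, ← Module.End.mul_apply, pow_mul_comm]
      have c2 : ((σ - 1) ^ m) ((σ - 1) (W1 y)) = ((σ - 1) ^ (m + 1)) (W1 y) := by
        rw [pow_succ, Module.End.mul_apply]
      rw [c1, c2]

theorem p_le_Dpow (h : HCtx p σ lam mu k) {y : X} (hy : y ∈ kerN p σ) :
    ∃ y' ∈ kerN p σ, (p : ℤ) • y = ((σ - 1) ^ (p - 1)) y' := by
  obtain ⟨y', hy', e⟩ := h.p_le_Dpow_aux (p - 1) 0 (by omega) y hy
  exact ⟨y', hy', by simpa using e⟩

end HCtx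

end Cfsg.Agent.Lib.Helper77.DO
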