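import Mathlib
import Cfsg.Agent.Lib.Helper22.TA0
import Cfsg.Agent.Lib.Helper77.DOHBa
import Cfsg.Agent.Lib.Helper77.DOHBb
import Cfsg.Agent.Lib.Helper77.DOHBd

/-!
# Subgroup chains for the Herbrand quotient with operator (job piece DO-HB)
-/

set_option autoImplicit false

namespace Cfsg.Agent.Lib.Helper77.DO

open Cfsg.Agent.Lib.Helper22.TA

variable {X : Type*} [AddCommGroup X]

/-- the subgroup `D^j (ker N)` -/
def E (p : ℕ) (σ : X →ₗ[ℤ] X) (j : ℕ) : AddSubgroup X :=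
  (kerN p σ).toAddSubgroup.map (((σ - 1) ^ j : X →ₗ[ℤ] X).toAddMonoidHom)

theorem mem_E {p : ℕ} {σ : X →ₗ[ℤ] X} {j : ℕ} {x : X} :
    x ∈ E p σ j ↔ ∃ y ∈ kerN p σ, ((σ - 1) ^ j) y = x := Iff.rfl

namespace HCtx

variable {p : ℕ} {σ lam mu : X →ₗ[ℤ] X} {k : ℕ}

theorem E_zero : E p σ 0 = (kerN p σ).toAddSubgroup := by
  ext x
  rw [mem_E]
  simp

theorem E_succ_le (h : HCtx p σ lam mu k) (j : ℕ) : E p σ (j + 1) ≤ E p σ j := by
  intro x hx
  obtain ⟨y, hy, rfl⟩ := mem_E.1 hx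
  exact mem_E.2 ⟨(σ - 1) y, h.D_ker hy, by rw [pow_succ, Module.End.mul_apply]⟩

theorem E_anti (h : HCtx p σ lam mu k) {i j : ℕ} (hij : i ≤ j) : E p σ j ≤ E p σ i :=
  antitone_nat_of_succ_le (fun n => h.E_succ_le n) hij

theorem E_le_ker (h : HCtx p σ lam mu k) (j : ℕ) : E p σ j ≤ (kerN p σ).toAddSubgroup := by
  intro x hx
  obtain ⟨y, hy, rfl⟩ := mem_E.1 hx
  exact h.Dpow_ker j hy

theorem lam_E (h : HCtx p σ lam mu k) (j : ℕ) :
    (E p σ j).map lam.toAddMonoidHom ≤ E p σ j := by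
  rintro _ ⟨x, hx, rfl⟩
  obtain ⟨y, hy, rfl⟩ := mem_E.1 hx
  exact mem_E.2 ⟨lam y, h.lam_ker hy, (h.lam_Dpow j y).symm⟩

theorem E_last (h : HCtx p σ lam mu k) :
    E p σ (p - 1) = (kerN p σ).toAddSubgroup.map (pmul p) := by
  ext x
  constructor
  · intro hx
    obtain ⟨y, hy, rfl⟩ := mem_E.1 hx
    obtain ⟨y', hy', e⟩ := h.Dpow_le_p hy
    exact ⟨y', hy', by rw [pmul_apply, e]⟩
  · rintro ⟨y, hy, rfl⟩
    obtain ⟨y', hy', e⟩ := h.p_le_Dpow hy
    exact mem_E.2 ⟨y', hy', by rw [pmul_apply, e]⟩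

theorem idem_ker (h : HCtx p σ lam mu k) {j : ℕ} (hj : j ≤ p - 1) {w : X} (hw : w ∈ kerN p σ) :
    lam (lam w) - lam w ∈ E p σ j := by
  apply h.E_anti hj
  rw [h.E_last, h.hidem]
  refine ⟨((p : ℤ) ^ (k - 1)) • mu w, (kerN p σ).smul_mem _ (h.mu_ker hw), ?_⟩
  rw [pmul_apply, smul_smul, ← pow_succ', Nat.sub_add_cancel h.hk]

theorem lam_map_ker (h : HCtx p σ lam mu k) :
    (kerN p σ).toAddSubgroup.map lam.toAddMonoidHom ≤ (kerN p σ).toAddSubgroup := by
  rintro _ ⟨x, hx, rfl⟩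
  exact h.lam_ker hx

theorem lam_map_fix (h : HCtx p σ lam mu k) :
    (fixS σ).toAddSubgroup.map lam.toAddMonoidHom ≤ (fixS σ).toAddSubgroup := by
  rintro _ ⟨x, hx, rfl⟩
  exact h.lam_fix hx

theorem lam_map_imN (h : HCtx p σ lam mu k) :
    (imN p σ).toAddSubgroup.map lam.toAddMonoidHom ≤ (imN p σ).toAddSubgroup := by
  rintro _ ⟨x, hx, rfl⟩
  exact h.lam_imN hx

theorem lam_map_imD (h : HCtx p σ lam mu k) :
    (imD σ).toAddSubgroup.map lam.toAddMonoidHom ≤ (imD σ).toAddSubgroup := by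
  rintro _ ⟨x, hx, rfl⟩
  exact h.lam_imD hx

/-- Step 3: the chain `Y ≥ DY ≥ ... ≥ D^(p-1) Y`. -/
theorem ri_E (h : HCtx p σ lam mu k) : ∀ j : ℕ, j ≤ p - 1 →
    ri lam.toAddMonoidHom (kerN p σ).toAddSubgroup (E p σ j) =
      (ri lam.toAddMonoidHom (kerN p σ).toAddSubgroup (E p σ 1)) ^ j := by
  intro j
  induction j with
  | zero =>
    intro _
    rw [E_zero, pow_zero]
    exact ri_self _ _ h.lam_map_ker
  | succ j ih =>
    intro hj
    have h1 := ri_mul lam.toAddMonoidHom (E p σ (j + 1)) (E p σ j) (kerN p σ).toAddSubgroup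
      (h.E_succ_le j) (h.E_le_ker j) (h.lam_E j) h.lam_map_ker
      (fun w hw => h.idem_ker hj hw)
    have h2 : ri lam.toAddMonoidHom (kerN p σ).toAddSubgroup (E p σ 1) =
        ri lam.toAddMonoidHom (E p σ j) (E p σ (j + 1)) := by
      refine ri_transport lam.toAddMonoidHom (((σ - 1) ^ j : X →ₗ[ℤ] X).toAddMonoidHom)
        (kerN p σ).toAddSubgroup (E p σ 1) (E p σ j) (E p σ (j + 1)) ?_ rfl h.lam_map_ker ?_
      · intro x
        exact (h.lam_Dpow j x).symm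
      · intro x hx
        constructor
        · intro hx1
          obtain ⟨y, hy, e⟩ := mem_E.1 hx1
          have e' : ((σ - 1) ^ j) (x - (σ - 1) y) = 0 := by
            rw [map_sub, sub_eq_zero, ← Module.End.mul_apply, ← pow_succ]
            exact e.symm
          have hz : x - (σ - 1) y ∈ kerN p σ := (kerN p σ).sub_mem hx (h.D_ker hy)
          have := h.Dpow_inj j hz e'
          refine mem_E.2 ⟨y, hy, ?_⟩
          rw [pow_one]
          exact (sub_eq_zero.1 this).symm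
        · intro hx1
          obtain ⟨y, hy, e⟩ := mem_E.1 hx1
          rw [pow_one] at e
          refine mem_E.2 ⟨y, hy, ?_⟩
          rw [pow_succ, Module.End.mul_apply, e]
          rfl
    rw [h1, ih (by omega), ← h2, pow_succ]

/-- Step 2: `pF ≤ NX ≤ F`. -/
theorem ri_F (h : HCtx p σ lam mu k) :
    ri lam.toAddMonoidHom (fixS σ).toAddSubgroup ((fixS σ).toAddSubgroup.map (pmul p)) =
      ri lam.toAddMonoidHom (fixS σ).toAddSubgroup (imN p σ).toAddSubgroup *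
        ri lam.toAddMonoidHom (imN p σ).toAddSubgroup ((fixS σ).toAddSubgroup.map (pmul p)) := by
  refine ri_mul lam.toAddMonoidHom _ _ _ ?_ ?_ h.lam_map_imN h.lam_map_fix ?_
  · rintro _ ⟨v, hv, rfl⟩
    exact mem_imN.2 ⟨v, h.N_fix hv⟩
  · exact h.imN_le_fix
  · intro w hw
    refine ⟨((p : ℤ) ^ (k - 1)) • mu w, (fixS σ).smul_mem _ (h.mu_fix hw), ?_⟩
    rw [pmul_apply, smul_smul, ← pow_succ', Nat.sub_add_cancel h.hk]
    exact (h.hidem w).symm

/-- Step 5, first half: `N` induces `X / (F + Y) ≅ NX / pF`. -/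
theorem ri_N (h : HCtx p σ lam mu k) :
    ri lam.toAddMonoidHom ⊤ ((fixS σ).toAddSubgroup ⊔ (kerN p σ).toAddSubgroup) =
      ri lam.toAddMonoidHom (imN p σ).toAddSubgroup ((fixS σ).toAddSubgroup.map (pmul p)) := by
  refine ri_transport lam.toAddMonoidHom (nrm p σ).toAddMonoidHom ⊤ _ _ _ ?_ ?_ le_top ?_
  · intro x
    exact (h.lam_N x).symm
  · ext x
    constructor
    · rintro ⟨w, _, rfl⟩
      exact mem_imN.2 ⟨w, rfl⟩
    · intro hx
      obtain ⟨w, rfl⟩ := mem_imN.1 hx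
      exact ⟨w, AddSubgroup.mem_top w, rfl⟩
  · intro x _
    constructor
    · rintro ⟨f, hf, e⟩
      rw [pmul_apply, ← h.N_fix hf] at e
      have hy : x - f ∈ kerN p σ := by
        rw [mem_kerN, map_sub, sub_eq_zero]
        exact e.symm
      rw [AddSubgroup.mem_sup]
      exact ⟨f, hf, x - f, hy, by abel⟩
    · intro hx
      rw [AddSubgroup.mem_sup] at hx
      obtain ⟨f, hf, y, hy, rfl⟩ := hx
      refine ⟨f, hf, ?_⟩
      rw [pmul_apply]
      show (p : ℤ) • f = nrm p σ (f + y)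
      rw [map_add, mem_kerN.1 hy, add_zero, h.N_fix hf]

/-- Step 5, second half: `D` induces `X / (F + Y) ≅ DX / DY`. -/
theorem ri_D (h : HCtx p σ lam mu k) :
    ri lam.toAddMonoidHom ⊤ ((fixS σ).toAddSubgroup ⊔ (kerN p σ).toAddSubgroup) =
      ri lam.toAddMonoidHom (imD σ).toAddSubgroup (E p σ 1) := by
  refine ri_transport lam.toAddMonoidHom (σ - 1 : X →ₗ[ℤ] X).toAddMonoidHom ⊤ _ _ _ ?_ ?_ le_top ?_
  · intro x
    exact (h.lam_D x).symm
  · ext x
    constructor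
    · rintro ⟨w, _, rfl⟩
      exact mem_imD.2 ⟨w, (D_apply σ w).symm⟩
    · intro hx
      obtain ⟨w, rfl⟩ := mem_imD.1 hx
      exact ⟨w, AddSubgroup.mem_top w, D_apply σ w⟩
  · intro x _
    constructor
    · intro hx
      obtain ⟨y, hy, e⟩ := mem_E.1 hx
      rw [pow_one] at e
      have hf : x - y ∈ fixS σ := by
        rw [mem_fixS, ← sub_eq_zero, ← D_apply, map_sub, sub_eq_zero]
        exact e.symm
      rw [AddSubgroup.mem_sup]
      exact ⟨x - y, hf, y, hy, by abel⟩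
    · intro hx
      rw [AddSubgroup.mem_sup] at hx
      obtain ⟨f, hf, y, hy, rfl⟩ := hx
      refine mem_E.2 ⟨y, hy, ?_⟩
      rw [pow_one]
      show (σ - 1) y = (σ - 1) (f + y)
      rw [map_add, D_apply σ f, mem_fixS.1 hf, sub_self, zero_add]

/-- Step 4: `DY ≤ DX ≤ Y`. -/
theorem ri_Y (h : HCtx p σ lam mu k) :
    ri lam.toAddMonoidHom (kerN p σ).toAddSubgroup (E p σ 1) =
      ri lam.toAddMonoidHom (kerN p σ).toAddSubgroup (imD σ).toAddSubgroup *
        ri lam.toAddMonoidHom (imD σ).toAddSubgroup (E p σ 1) := by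
  refine ri_mul lam.toAddMonoidHom _ _ _ ?_ ?_ h.lam_map_imD h.lam_map_ker ?_
  · intro x hx
    obtain ⟨y, hy, rfl⟩ := mem_E.1 hx
    rw [pow_one]
    exact mem_imD.2 ⟨y, (D_apply σ y).symm⟩
  · exact h.imD_le_ker
  · intro w hw
    have h2 := h.hp.two_le
    exact h.idem_ker (by omega) hw

end HCtx

end Cfsg.Agent.Lib.Helper77.DO
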