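import Mathlib
import Cfsg.Agent.Lib.Helper22.TA0
import Cfsg.Agent.Lib.Lead.DOHB1
import Cfsg.Agent.Lib.Helper77.DOHBa
import Cfsg.Agent.Lib.Helper77.DOHBb
import Cfsg.Agent.Lib.Helper77.DOHBd
import Cfsg.Agent.Lib.Helper77.DOHBe

/-!
# Job piece DO-HB (poster helper22, S0960 + S4441): `herbrand`

Herbrand quotient with operator for a `ℤ[C_p]`-lattice.
-/

set_option autoImplicit false

namespace Cfsg.Agent.Lib.Helper77.DO

open Cfsg.Agent.Lib.Helper22.TA

variable {X : Type*} [AddCommGroup X]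

namespace HCtx

variable {p : ℕ} {σ lam mu : X →ₗ[ℤ] X} {k : ℕ}

theorem card_range_fA (h : HCtx p σ lam mu k) (fA : QA p σ →ₗ[ℤ] QA p σ)
    (hA : IndA p σ lam fA) :
    Nat.card (LinearMap.range fA) =
      ri lam.toAddMonoidHom (fixS σ).toAddSubgroup (imN p σ).toAddSubgroup := by
  let q : ↥(fixS σ) →+ QA p σ := ((imN p σ).submoduleOf (fixS σ)).mkQ.toAddMonoidHom
  let ι : ↥(fixS σ) →+ X := (fixS σ).subtype.toAddMonoidHom
  let K : AddSubgroup ↥(fixS σ) := ((fixS σ).toAddSubgroup.map lam.toAddMonoidHom).comap ι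
  have hker : q.ker = (imN p σ).toAddSubgroup.comap ι := by
    ext x
    rw [AddMonoidHom.mem_ker, AddSubgroup.mem_comap]
    show Submodule.Quotient.mk x = 0 ↔ _
    rw [Submodule.Quotient.mk_eq_zero]
    rfl
  have hset : (LinearMap.range fA : Set (QA p σ)) = (K.map q : Set (QA p σ)) := by
    ext t
    constructor
    · rintro ⟨a, rfl⟩
      obtain ⟨v, hv, rfl⟩ := mkA_surjective p σ a
      obtain ⟨hw, e⟩ := hA v hv
      refine ⟨⟨lam v, hw⟩, ?_, ?_⟩
      · exact ⟨v, hv, rfl⟩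
      · rw [e]
        rfl
    · rintro ⟨x, hx, rfl⟩
      obtain ⟨v, hv, e⟩ := hx
      obtain ⟨hw, e2⟩ := hA v hv
      refine ⟨mkA p σ v hv, ?_⟩
      rw [e2]
      have : (⟨lam v, hw⟩ : ↥(fixS σ)) = x := Subtype.ext e
      show Submodule.Quotient.mk (⟨lam v, hw⟩ : ↥(fixS σ)) = q x
      rw [this]
      rfl
  have e1 : Nat.card (LinearMap.range fA) = (LinearMap.range fA : Set (QA p σ)).ncard :=
    Nat.card_coe_set_eq _
  have e2 : Nat.card (K.map q) = (K.map q : Set (QA p σ)).ncard := Nat.card_coe_set_eq _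
  rw [e1, hset, ← e2, ← AddSubgroup.relIndex_ker, hker, AddSubgroup.relIndex_comap]
  unfold ri
  congr 1
  ext x
  constructor
  · rintro ⟨y, hy, rfl⟩
    exact hy
  · intro hx
    obtain ⟨v, hv, rfl⟩ := hx
    exact ⟨⟨lam v, h.lam_fix hv⟩, ⟨v, hv, rfl⟩, rfl⟩

theorem card_range_fB (h : HCtx p σ lam mu k) (fB : QB p σ →ₗ[ℤ] QB p σ)
    (hB : IndB p σ lam fB) :
    Nat.card (LinearMap.range fB) =
      ri lam.toAddMonoidHom (kerN p σ).toAddSubgroup (imD σ).toAddSubgroup := by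
  let q : ↥(kerN p σ) →+ QB p σ := ((imD σ).submoduleOf (kerN p σ)).mkQ.toAddMonoidHom
  let ι : ↥(kerN p σ) →+ X := (kerN p σ).subtype.toAddMonoidHom
  let K : AddSubgroup ↥(kerN p σ) := ((kerN p σ).toAddSubgroup.map lam.toAddMonoidHom).comap ι
  have hker : q.ker = (imD σ).toAddSubgroup.comap ι := by
    ext x
    rw [AddMonoidHom.mem_ker, AddSubgroup.mem_comap]
    show Submodule.Quotient.mk x = 0 ↔ _
    rw [Submodule.Quotient.mk_eq_zero]
    rfl
  have hset : (LinearMap.range fB : Set (QB p σ)) = (K.map q : Set (QB p σ)) := by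
    ext t
    constructor
    · rintro ⟨a, rfl⟩
      obtain ⟨v, hv, rfl⟩ := mkB_surjective p σ a
      obtain ⟨hw, e⟩ := hB v hv
      refine ⟨⟨lam v, hw⟩, ?_, ?_⟩
      · exact ⟨v, hv, rfl⟩
      · rw [e]
        rfl
    · rintro ⟨x, hx, rfl⟩
      obtain ⟨v, hv, e⟩ := hx
      obtain ⟨hw, e2⟩ := hB v hv
      refine ⟨mkB p σ v hv, ?_⟩
      rw [e2]
      have : (⟨lam v, hw⟩ : ↥(kerN p σ)) = x := Subtype.ext e
      show Submodule.Quotient.mk (⟨lam v, hw⟩ : ↥(kerN p σ)) = q x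
      rw [this]
      rfl
  have e1 : Nat.card (LinearMap.range fB) = (LinearMap.range fB : Set (QB p σ)).ncard :=
    Nat.card_coe_set_eq _
  have e2 : Nat.card (K.map q) = (K.map q : Set (QB p σ)).ncard := Nat.card_coe_set_eq _
  rw [e1, hset, ← e2, ← AddSubgroup.relIndex_ker, hker, AddSubgroup.relIndex_comap]
  unfold ri
  congr 1
  ext x
  constructor
  · rintro ⟨y, hy, rfl⟩
    exact hy
  · intro hx
    obtain ⟨v, hv, rfl⟩ := hx
    exact ⟨⟨lam v, h.lam_ker hv⟩, ⟨v, hv, rfl⟩, rfl⟩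

/-- Step 1: the exact trace identity. -/
theorem trace_identity [Module.Free ℤ X] [Module.Finite ℤ X] (h : HCtx p σ lam mu k)
    (hF : ∀ x ∈ fixS σ, lam x ∈ fixS σ) (hY : ∀ x ∈ kerN p σ, lam x ∈ kerN p σ) :
    (∑ t ∈ Finset.Ico 1 p, LinearMap.trace ℤ X ((σ ^ t) ∘ₗ lam)) =
      ((p : ℤ) - 1) * LinearMap.trace ℤ (fixS σ) (lam.restrict hF) -
        LinearMap.trace ℤ (kerN p σ) (lam.restrict hY) := by
  have hp0 : (p : ℤ) ≠ 0 := by exact_mod_cast h.hp.ne_zero
  have s1 : (∑ t ∈ Finset.Ico 1 p, LinearMap.trace ℤ X ((σ ^ t) ∘ₗ lam)) =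
      LinearMap.trace ℤ X (nrm p σ ∘ₗ lam) - LinearMap.trace ℤ X lam := by
    have : nrm p σ ∘ₗ lam = lam + ∑ t ∈ Finset.Ico 1 p, (σ ^ t) ∘ₗ lam := by
      ext x
      simp only [LinearMap.comp_apply, LinearMap.add_apply, LinearMap.sum_apply]
      rw [nrm_apply, Finset.range_eq_Ico, Finset.sum_eq_sum_Ico_succ_bot h.hp.pos, pow_zero,
        Module.End.one_apply]
    rw [this, map_add, map_sum]
    ring
  -- the part on `F`
  have hNF : ∀ x, (nrm p σ ∘ₗ lam) x ∈ fixS σ := fun x => h.DN _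
  have t1 := LinearMap.trace_restrict_eq_of_forall_mem (fixS σ) (nrm p σ ∘ₗ lam) hNF
  have r1 : (nrm p σ ∘ₗ lam).restrict (fun x _ => hNF x) = (p : ℤ) • lam.restrict hF := by
    ext ⟨v, hv⟩
    simp only [LinearMap.restrict_apply, LinearMap.comp_apply, LinearMap.smul_apply,
      Submodule.coe_smul]
    exact h.N_fix (hF v hv)
  rw [r1, map_smul, smul_eq_mul] at t1
  -- the part on `Y`
  set G : X →ₗ[ℤ] X := ((p : ℤ) • (1 : X →ₗ[ℤ] X) - nrm p σ) ∘ₗ lam with hG
  have hGx : ∀ x, G x = (p : ℤ) • lam x - nrm p σ (lam x) := by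
    intro x
    rw [hG]
    simp only [LinearMap.comp_apply, LinearMap.sub_apply, LinearMap.smul_apply,
      Module.End.one_apply]
  have hGY : ∀ x, G x ∈ kerN p σ := by
    intro x
    rw [mem_kerN, hGx, map_sub, map_smul, h.N_fix (h.DN (lam x)), sub_self]
  have t2 := LinearMap.trace_restrict_eq_of_forall_mem (kerN p σ) G hGY
  have r2 : G.restrict (fun x _ => hGY x) = (p : ℤ) • lam.restrict hY := by
    ext ⟨v, hv⟩
    simp only [LinearMap.restrict_apply, LinearMap.smul_apply, Submodule.coe_smul]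
    rw [hGx, mem_kerN.1 (hY v hv), sub_zero]
  rw [r2, map_smul, smul_eq_mul] at t2
  -- sum
  have hsum : (p : ℤ) • lam = nrm p σ ∘ₗ lam + G := by
    ext x
    simp only [LinearMap.smul_apply, LinearMap.add_apply, LinearMap.comp_apply]
    rw [hGx]
    abel
  have t3 := congrArg (LinearMap.trace ℤ X) hsum
  rw [map_smul, smul_eq_mul, map_add, ← t1, ← t2, ← mul_add] at t3
  have t4 := mul_left_cancel₀ hp0 t3
  rw [s1, ← t1, t4]
  ring

end HCtx

theorem herbrand [Module.Free ℤ X] [Module.Finite ℤ X] (p : ℕ) [Fact p.Prime]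
    (σ : X →ₗ[ℤ] X) (hσ : σ ^ p = 1)
    (k : ℕ) (hk : 1 ≤ k) (lam mu : X →ₗ[ℤ] X) (hcomm : lam ∘ₗ σ = σ ∘ₗ lam)
    (hidem : lam ∘ₗ lam - lam = ((p : ℤ) ^ k) • mu)
    (fA : QA p σ →ₗ[ℤ] QA p σ) (fB : QB p σ →ₗ[ℤ] QB p σ)
    (hA : IndA p σ lam fA) (hB : IndB p σ lam fB) :
    ∃ a b : ℕ, a ≤ Module.finrank ℤ X ∧ b ≤ Module.finrank ℤ X ∧
      Nat.card (LinearMap.range fA) = p ^ a ∧ Nat.card (LinearMap.range fB) = p ^ b ∧
      (∑ t ∈ Finset.Ico 1 p, LinearMap.trace ℤ X ((σ ^ t) ∘ₗ lam)) ≡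
        ((p : ℤ) - 1) * ((a : ℤ) - (b : ℤ)) [ZMOD (p : ℤ) ^ k] := by
  have hp : p.Prime := Fact.out
  have h : HCtx p σ lam mu k :=
    { hp := hp
      hσ := hσ
      hk := hk
      hcomm := fun x => LinearMap.congr_fun hcomm x
      hidem := fun x => by
        have := LinearMap.congr_fun hidem x
        rw [LinearMap.sub_apply, LinearMap.comp_apply, LinearMap.smul_apply] at this
        exact this
      tf := fun x hx => by
        rcases smul_eq_zero.1 hx with h0 | h0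
        · exact absurd h0 (by exact_mod_cast hp.ne_zero)
        · exact h0 }
  have hF : ∀ x ∈ fixS σ, lam x ∈ fixS σ := fun x hx => h.lam_fix hx
  have hY : ∀ x ∈ kerN p σ, lam x ∈ kerN p σ := fun x hx => h.lam_ker hx
  have hmF : ∀ x ∈ fixS σ, mu x ∈ fixS σ := fun x hx => h.mu_fix hx
  have hmY : ∀ x ∈ kerN p σ, mu x ∈ kerN p σ := fun x hx => h.mu_ker hx
  -- HB1 on `F` and `Y`
  have trF := Cfsg.Agent.Lib.Lead.DOHB1.tr_approx_idem p k hk (lam.restrict hF) (mu.restrict hmF)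
    (by
      ext ⟨v, hv⟩
      simp only [LinearMap.sub_apply, LinearMap.comp_apply, LinearMap.smul_apply,
        LinearMap.restrict_apply, Submodule.coe_sub, Submodule.coe_smul]
      exact h.hidem v)
  have trY := Cfsg.Agent.Lib.Lead.DOHB1.tr_approx_idem p k hk (lam.restrict hY) (mu.restrict hmY)
    (by
      ext ⟨v, hv⟩
      simp only [LinearMap.sub_apply, LinearMap.comp_apply, LinearMap.smul_apply,
        LinearMap.restrict_apply, Submodule.coe_sub, Submodule.coe_smul]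
      exact h.hidem v)
  set nF := Module.finrank (ZMod p) (LinearMap.range ((lam.restrict hF).baseChange (ZMod p)))
    with hnF
  set nY := Module.finrank (ZMod p) (LinearMap.range ((lam.restrict hY).baseChange (ZMod p)))
    with hnY
  have cF : ri lam.toAddMonoidHom (fixS σ).toAddSubgroup ((fixS σ).toAddSubgroup.map (pmul p)) =
      p ^ nF := by
    rw [← card_range_baseChange_restrict p (fixS σ) lam hF,
      Module.natCard_eq_pow_finrank (K := ZMod p), Nat.card_zmod]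
  have cY : ri lam.toAddMonoidHom (kerN p σ).toAddSubgroup ((kerN p σ).toAddSubgroup.map (pmul p)) =
      p ^ nY := by
    rw [← card_range_baseChange_restrict p (kerN p σ) lam hY,
      Module.natCard_eq_pow_finrank (K := ZMod p), Nat.card_zmod]
  have bF : nF ≤ Module.finrank ℤ X := by
    calc nF ≤ Module.finrank (ZMod p) (TensorProduct ℤ (ZMod p) (fixS σ)) := Submodule.finrank_le _
      _ = Module.finrank ℤ (fixS σ) := Module.finrank_baseChange
      _ ≤ Module.finrank ℤ X := Submodule.finrank_le _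
  have bY : nY ≤ Module.finrank ℤ X := by
    calc nY ≤ Module.finrank (ZMod p) (TensorProduct ℤ (ZMod p) (kerN p σ)) := Submodule.finrank_le _
      _ = Module.finrank ℤ (kerN p σ) := Module.finrank_baseChange
      _ ≤ Module.finrank ℤ X := Submodule.finrank_le _
  -- the indices
  set rA := ri lam.toAddMonoidHom (fixS σ).toAddSubgroup (imN p σ).toAddSubgroup with hrA
  set q1 := ri lam.toAddMonoidHom (imN p σ).toAddSubgroup ((fixS σ).toAddSubgroup.map (pmul p))
    with hq1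
  set rB := ri lam.toAddMonoidHom (kerN p σ).toAddSubgroup (imD σ).toAddSubgroup with hrB
  set q2 := ri lam.toAddMonoidHom (imD σ).toAddSubgroup (E p σ 1) with hq2
  set c := ri lam.toAddMonoidHom (kerN p σ).toAddSubgroup (E p σ 1) with hc
  have e1 : rA * q1 = p ^ nF := by rw [← cF]; exact h.ri_F.symm
  have e2 : q1 = q2 := by rw [hq1, ← h.ri_N, h.ri_D]
  have e3 : c = rB * q2 := h.ri_Y
  have e4 : c ^ (p - 1) = p ^ nY := by
    rw [← cY, ← h.E_last, h.ri_E (p - 1) le_rfl]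
  have hp1 : p - 1 ≠ 0 := by have := hp.two_le; omega
  -- arithmetic
  obtain ⟨a, ha, hrA'⟩ := (Nat.dvd_prime_pow hp).1 (Dvd.intro _ e1)
  have hq1' : q1 = p ^ (nF - a) := by
    have e1' : p ^ a * q1 = p ^ nF := by rw [← hrA']; exact e1
    have : p ^ a * q1 = p ^ a * p ^ (nF - a) := by
      rw [e1', ← pow_add, Nat.add_sub_cancel' ha]
    exact Nat.eq_of_mul_eq_mul_left (pow_pos hp.pos a) this
  obtain ⟨cc, hcc, hc'⟩ := (Nat.dvd_prime_pow hp).1 (e4 ▸ dvd_pow_self c hp1)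
  have hnY' : cc * (p - 1) = nY := by
    rw [hc', ← pow_mul] at e4
    exact Nat.pow_right_injective hp.two_le e4
  have e3' : rB * q2 = p ^ cc := by rw [← e3, hc']
  obtain ⟨b, hb, hrB'⟩ := (Nat.dvd_prime_pow hp).1 (Dvd.intro _ e3')
  have hq2' : q2 = p ^ (cc - b) := by
    have e3'' : p ^ b * q2 = p ^ cc := by rw [← hrB']; exact e3'
    have : p ^ b * q2 = p ^ b * p ^ (cc - b) := by
      rw [e3'', ← pow_add, Nat.add_sub_cancel' hb]
    exact Nat.eq_of_mul_eq_mul_left (pow_pos hp.pos b) this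
  have hd : nF - a = cc - b := by
    rw [hq1', hq2'] at e2
    exact Nat.pow_right_injective hp.two_le e2
  refine ⟨a, b, le_trans ha bF, ?_, ?_, ?_, ?_⟩
  · refine le_trans hb (le_trans ?_ bY)
    rw [← hnY']
    exact Nat.le_mul_of_pos_right cc (Nat.pos_of_ne_zero hp1)
  · rw [h.card_range_fA fA hA]
    exact hrA'
  · rw [h.card_range_fB fB hB]
    exact hrB'
  · rw [h.trace_identity hF hY]
    have m1 : ((p : ℤ) - 1) * LinearMap.trace ℤ (fixS σ) (lam.restrict hF) -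
        LinearMap.trace ℤ (kerN p σ) (lam.restrict hY) ≡
        ((p : ℤ) - 1) * (nF : ℤ) - (nY : ℤ) [ZMOD (p : ℤ) ^ k] :=
      Int.ModEq.sub (Int.ModEq.mul_left _ trF) trY
    have m2 : ((p : ℤ) - 1) * (nF : ℤ) - (nY : ℤ) = ((p : ℤ) - 1) * ((a : ℤ) - (b : ℤ)) := by
      have hnF' : (nF : ℤ) = (a : ℤ) + ((nF - a : ℕ) : ℤ) := by
        rw [← Nat.cast_add, Nat.add_sub_cancel' ha]
      have hcc' : (cc : ℤ) = (b : ℤ) + ((cc - b : ℕ) : ℤ) := by
        rw [← Nat.cast_add, Nat.add_sub_cancel' hb]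
      have hnY'' : (nY : ℤ) = (cc : ℤ) * ((p : ℤ) - 1) := by
        rw [← hnY', Nat.cast_mul, Nat.cast_sub hp.one_le, Nat.cast_one]
      rw [hnY'', hnF', hcc', hd]
      ring
    rw [← m2]
    exact m1

end Cfsg.Agent.Lib.Helper77.DO
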