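import Cfsg.Agent.Lib.Helper45.FPDefs

/-!
# Leaf PART0 of S2276 (helper45): greedy tiling by invariant subsets
-/

set_option autoImplicit false

namespace Cfsg.Agent.Lib.Helper77.FP

open Equiv Cfsg.Agent.Lib.Helper45.FP

/-- an invariant finite set is closed under preimages -/
theorem part0_preimage {α : Type*} [DecidableEq α] (w : Perm α) (S : Finset α)
    (hS : ∀ x ∈ S, w x ∈ S) (y : α) (hy : w y ∈ S) : y ∈ S := by
  have himg : S.image w = S := by
    apply Finset.eq_of_subset_of_card_le
    · intro z hz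
      obtain ⟨x, hx, rfl⟩ := Finset.mem_image.mp hz
      exact hS x hx
    · rw [Finset.card_image_of_injective _ w.injective]
  rw [← himg] at hy
  obtain ⟨x, hx, hxy⟩ := Finset.mem_image.mp hy
  rw [← w.injective hxy]; exact hx

/-- the orbit of a point as a finset -/
theorem part0_orbit {α : Type*} [DecidableEq α] (w : Perm α) (x : α) (M : ℕ)
    (hM : Function.minimalPeriod w x = M) (hM0 : 0 < M) :
    ∃ O : Finset α, x ∈ O ∧ (∀ y ∈ O, w y ∈ O) ∧ O.card = M ∧
      ∀ X : Finset α, (∀ y ∈ X, w y ∈ X) → x ∈ X → O ⊆ X := by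
  refine ⟨(Finset.range M).image (fun k => (w ^ k) x), ?_, ?_, ?_, ?_⟩
  · exact Finset.mem_image.mpr ⟨0, Finset.mem_range.mpr hM0, by simp⟩
  · intro y hy
    obtain ⟨k, hk, rfl⟩ := Finset.mem_image.mp hy
    refine Finset.mem_image.mpr ⟨(k + 1) % M, Finset.mem_range.mpr (Nat.mod_lt _ hM0), ?_⟩
    show (w ^ ((k + 1) % M)) x = w ((w ^ k) x)
    rw [← Equiv.Perm.iterate_eq_pow, ← Equiv.Perm.iterate_eq_pow, ← hM,
      Function.iterate_mod_minimalPeriod_eq, Function.iterate_succ_apply']
  · rw [Finset.card_image_of_injOn, Finset.card_range]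
    intro k hk k' hk' hkk
    simp only [Finset.coe_range, Set.mem_Iio] at hk hk'
    have hkk' : (w ^ k) x = (w ^ k') x := hkk
    rw [← Equiv.Perm.iterate_eq_pow, ← Equiv.Perm.iterate_eq_pow] at hkk'
    exact (Function.iterate_eq_iterate_iff_of_lt_minimalPeriod (f := w) (x := x)
      (by rw [hM]; exact hk) (by rw [hM]; exact hk')).mp hkk'
  · intro X hX hx y hy
    obtain ⟨k, hk, rfl⟩ := Finset.mem_image.mp hy
    show (w ^ k) x ∈ X
    clear hk hy
    induction k with
    | zero => simpa using hx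
    | succ k ih => rw [pow_succ', Perm.mul_apply]; exact hX _ ih

/-- TILE -/
theorem part0_tile {α : Type*} [Fintype α] [DecidableEq α] (p : ℕ) [Fact p.Prime] (w : Perm α)
    (hw : ∀ x, ∃ i : ℕ, Function.minimalPeriod w x = p ^ i) (X : Finset α) :
    (∀ x ∈ X, w x ∈ X) → ∀ N : ℕ, N ≤ X.card → (∀ x ∈ X, Function.minimalPeriod w x ∣ N) →
      ∃ S : Finset α, S ⊆ X ∧ (∀ x ∈ S, w x ∈ S) ∧ S.card = N := by
  have hp : p.Prime := Fact.out
  induction X using Finset.strongInduction with
  | H X ih =>
    intro hX N hN hdiv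
    rcases Nat.eq_zero_or_pos N with hN0 | hN0
    · exact ⟨∅, Finset.empty_subset _, fun x hx => absurd hx (Finset.notMem_empty x),
        by rw [hN0]; rfl⟩
    · have hne : X.Nonempty := Finset.card_pos.mp (lt_of_lt_of_le hN0 hN)
      obtain ⟨x, hx, hmax⟩ :=
        Finset.exists_max_image X (fun y => Function.minimalPeriod w y) hne
      obtain ⟨i, hi⟩ := hw x
      have hM0 : 0 < p ^ i := pow_pos hp.pos i
      obtain ⟨O, hxO, hOinv, hOcard, hOsub⟩ := part0_orbit w x (p ^ i) hi hM0
      have hOX : O ⊆ X := hOsub X hX hx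
      have hMN : p ^ i ∣ N := hi ▸ hdiv x hx
      have hMle : p ^ i ≤ N := Nat.le_of_dvd hN0 hMN
      have hss : X \ O ⊂ X := by
        refine Finset.ssubset_iff_subset_ne.mpr ⟨Finset.sdiff_subset, ?_⟩
        intro h
        have : x ∈ X \ O := by rw [h]; exact hx
        exact (Finset.mem_sdiff.mp this).2 hxO
      have hX' : ∀ y ∈ X \ O, w y ∈ X \ O := by
        intro y hy
        obtain ⟨hy1, hy2⟩ := Finset.mem_sdiff.mp hy
        exact Finset.mem_sdiff.mpr ⟨hX y hy1, fun h => hy2 (part0_preimage w O hOinv y h)⟩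
      have hcard' : N - p ^ i ≤ (X \ O).card := by
        rw [Finset.card_sdiff_of_subset hOX, hOcard]
        omega
      have hdiv' : ∀ y ∈ X \ O, Function.minimalPeriod w y ∣ N - p ^ i := by
        intro y hy
        obtain ⟨hy1, hy2⟩ := Finset.mem_sdiff.mp hy
        obtain ⟨j, hj⟩ := hw y
        have hle : p ^ j ≤ p ^ i := by
          have h := hmax y hy1
          have h' : Function.minimalPeriod w y ≤ Function.minimalPeriod w x := h
          rw [hj, hi] at h'
          exact h'
        have hji : j ≤ i := (Nat.pow_le_pow_iff_right hp.one_lt).mp hle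
        rw [hj]
        exact dvd_trans (pow_dvd_pow p hji) (Nat.dvd_sub hMN (dvd_refl _))
      obtain ⟨S', hS'sub, hS'inv, hS'card⟩ := ih (X \ O) hss hX' (N - p ^ i) hcard' hdiv'
      refine ⟨O ∪ S', Finset.union_subset hOX (hS'sub.trans Finset.sdiff_subset), ?_, ?_⟩
      · intro y hy
        rcases Finset.mem_union.mp hy with h | h
        · exact Finset.mem_union_left _ (hOinv y h)
        · exact Finset.mem_union_right _ (hS'inv y h)
      · have hdisj : Disjoint O S' := by
          rw [Finset.disjoint_left]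
          intro y hyO hyS
          exact (Finset.mem_sdiff.mp (hS'sub hyS)).2 hyO
        rw [Finset.card_union_of_disjoint hdisj, hOcard, hS'card]
        omega

/-- PART0 (includes the greedy tiling lemma) -/
theorem PART0 {α : Type*} [Fintype α] [DecidableEq α] (p : ℕ) [Fact p.Prime] (w : Perm α)
    (hw : ∀ x, ∃ i : ℕ, Function.minimalPeriod w x = p ^ i) (m k : ℕ)
    (X : Finset α) (hX : ∀ x ∈ X, w x ∈ X) (hcard : k * m ≤ X.card)
    (hdiv : ∀ x ∈ X, Function.minimalPeriod w x ∣ m) :
    ∃ F : Fin k → Finset α, (∀ i, F i ⊆ X) ∧ (∀ i, ∀ x ∈ F i, w x ∈ F i) ∧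
      (∀ i, (F i).card = m) ∧ (∀ i j, i ≠ j → Disjoint (F i) (F j)) := by
  induction k generalizing X with
  | zero =>
    exact ⟨fun i => i.elim0, fun i => i.elim0, fun i => i.elim0, fun i => i.elim0,
      fun i => i.elim0⟩
  | succ k ih =>
    have hm : m ≤ X.card := by
      have : m ≤ (k + 1) * m := Nat.le_mul_of_pos_left m (Nat.succ_pos k)
      omega
    obtain ⟨S, hSX, hSinv, hScard⟩ := part0_tile p w hw X hX m hm hdiv
    have hX' : ∀ y ∈ X \ S, w y ∈ X \ S := by
      intro y hy
      obtain ⟨hy1, hy2⟩ := Finset.mem_sdiff.mp hy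
      exact Finset.mem_sdiff.mpr ⟨hX y hy1, fun h => hy2 (part0_preimage w S hSinv y h)⟩
    have hcard' : k * m ≤ (X \ S).card := by
      rw [Finset.card_sdiff_of_subset hSX, hScard]
      have : (k + 1) * m = k * m + m := by ring
      omega
    have hdiv' : ∀ x ∈ X \ S, Function.minimalPeriod w x ∣ m :=
      fun x hx => hdiv x (Finset.mem_sdiff.mp hx).1
    obtain ⟨F', hF1, hF2, hF3, hF4⟩ := ih (X \ S) hX' hcard' hdiv'
    refine ⟨Fin.cons S F', ?_, ?_, ?_, ?_⟩
    · intro i
      refine Fin.cases ?_ (fun j => ?_) i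
      · rw [Fin.cons_zero]; exact hSX
      · rw [Fin.cons_succ]; exact (hF1 j).trans Finset.sdiff_subset
    · intro i
      refine Fin.cases ?_ (fun j => ?_) i
      · rw [Fin.cons_zero]; exact hSinv
      · rw [Fin.cons_succ]; exact hF2 j
    · intro i
      refine Fin.cases ?_ (fun j => ?_) i
      · rw [Fin.cons_zero]; exact hScard
      · rw [Fin.cons_succ]; exact hF3 j
    · intro i j
      refine Fin.cases ?_ (fun i' => ?_) i
      · refine Fin.cases ?_ (fun j' => ?_) j
        · intro hij; exact absurd rfl hij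
        · intro _
          rw [Fin.cons_zero, Fin.cons_succ, Finset.disjoint_left]
          intro y hyS hyF
          exact (Finset.mem_sdiff.mp (hF1 j' hyF)).2 hyS
      · refine Fin.cases ?_ (fun j' => ?_) j
        · intro _
          rw [Fin.cons_zero, Fin.cons_succ, Finset.disjoint_left]
          intro y hyF hyS
          exact (Finset.mem_sdiff.mp (hF1 i' hyF)).2 hyS
        · intro hij
          rw [Fin.cons_succ, Fin.cons_succ]
          exact hF4 i' j' (fun h => hij (by rw [h]))

end Cfsg.Agent.Lib.Helper77.FP
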