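import Cfsg.Agent.Lib.Helper45.FPDefs

/-!
# Leaf M3C of S2276 (helper45): regime C
-/

set_option autoImplicit false

namespace Cfsg.Agent.Lib.Helper77.FP

open Equiv Cfsg.Agent.Lib.Helper45.FP

/-- M3C: regime C -/
theorem M3C (p J μ ℓ : ℕ) [Fact p.Prime] (hp3 : 3 ≤ p) (hℓ : ℓ = J * (p * μ)) [NeZero ℓ]
    (hpJ : p ∣ J) (hℓpow : ∃ a : ℕ, ℓ = p ^ a)
    (hspo : ∀ (σ τ : Perm (ZMod ℓ)) (x : ZMod ℓ), σ x ≠ x → τ x ≠ x →
      (∀ y, σ y ≠ y → τ y ≠ y → y = x) → (σ * τ * σ⁻¹ * τ⁻¹).IsThreeCycle ∧ (σ * τ * σ⁻¹ * τ⁻¹) x = σ x)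
    (M : Perm (ZMod ℓ))
    (hM1 : ∀ x : ZMod ℓ, (ZMod.cast x : ZMod J) = 0 → M x = x + (J : ZMod ℓ))
    (hMC : ∀ x : ZMod ℓ, (ZMod.cast x : ZMod J) ≠ 0 → (M ^ μ) x = x) :
    ∃ θ ∈ Subgroup.closure ({rot ℓ, swap (0 : ZMod ℓ) ((J : ZMod ℓ) + 1) * M *
        swap (0 : ZMod ℓ) ((J : ZMod ℓ) + 1)} : Set (Perm (ZMod ℓ))),
      θ.IsThreeCycle ∧ ∃ x : ZMod ℓ, IsUnit (θ x - x) := by
  have hp : p.Prime := Fact.out
  have hℓ0 : ℓ ≠ 0 := NeZero.ne ℓ
  have hJ0 : 0 < J := by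
    rcases Nat.eq_zero_or_pos J with h | h
    · rw [h, zero_mul] at hℓ; exact absurd hℓ hℓ0
    · exact h
  have hμ0 : 0 < μ := by
    rcases Nat.eq_zero_or_pos μ with h | h
    · rw [h, mul_zero, mul_zero] at hℓ; exact absurd hℓ hℓ0
    · exact h
  have hJ3 : 3 ≤ J := le_trans hp3 (Nat.le_of_dvd hJ0 hpJ)
  have hJℓ : J ∣ ℓ := ⟨p * μ, hℓ⟩
  have hQJ : J ≤ J * μ := Nat.le_mul_of_pos_right J hμ0
  have h3Q : 3 * (J * μ) ≤ ℓ := by
    rw [hℓ]
    calc 3 * (J * μ) ≤ p * (J * μ) := Nat.mul_le_mul_right _ hp3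
      _ = J * (p * μ) := by ring
  have : Fact (1 < J) := ⟨by omega⟩
  have : Fact (1 < ℓ) := ⟨by omega⟩
  -- the class map
  set cls : ZMod ℓ →+* ZMod J := ZMod.castHom hJℓ (ZMod J) with hcls
  have hclsJ : cls (J : ZMod ℓ) = 0 := by rw [map_natCast, ZMod.natCast_self]
  have hclsq : cls ((J * μ : ℕ) : ZMod ℓ) = 0 := by
    rw [map_natCast, Nat.cast_mul, ZMod.natCast_self, zero_mul]
  have h10 : (1 : ZMod J) ≠ 0 := one_ne_zero
  have h20 : (1 : ZMod J) + 1 ≠ 0 := by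
    intro h
    have h' : ((2 : ℕ) : ZMod J) = 0 := by rw [← h]; norm_num
    rw [ZMod.natCast_eq_zero_iff] at h'
    have := Nat.le_of_dvd (by norm_num) h'
    omega
  have hnat : ∀ n : ℕ, 0 < n → n < ℓ → ((n : ℕ) : ZMod ℓ) ≠ 0 := by
    intro n h0 hlt h
    rw [ZMod.natCast_eq_zero_iff] at h
    exact Nat.not_dvd_of_pos_of_lt h0 hlt h
  set b : ZMod ℓ := (J : ZMod ℓ) + 1 with hb
  set q : ZMod ℓ := ((J * μ : ℕ) : ZMod ℓ) with hq
  have hclsb : cls b = 1 := by rw [hb, map_add, hclsJ, map_one, zero_add]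
  have hb0 : b ≠ 0 := by
    intro h
    have := congrArg cls h
    rw [hclsb, map_zero] at this
    exact h10 this
  have hq0 : q ≠ 0 := hnat _ (by omega) (by omega)
  have hqb : q ≠ b := by
    intro h
    have := congrArg cls h
    rw [hclsq, hclsb] at this
    exact h10 this.symm
  have hJne0 : (J : ZMod ℓ) ≠ 0 := hnat J hJ0 (by omega)
  have hJb : (J : ZMod ℓ) ≠ b := by
    intro h
    have := congrArg cls h
    rw [hclsJ, hclsb] at this
    exact h10 this.symm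
  have hJq0 : (J : ZMod ℓ) + q ≠ 0 := by
    have := hnat (J + J * μ) (by omega) (by omega)
    rw [Nat.cast_add] at this
    exact this
  have hJqb : (J : ZMod ℓ) + q ≠ b := by
    intro h
    have := congrArg cls h
    rw [map_add, hclsJ, hclsq, hclsb, add_zero] at this
    exact h10 this.symm
  -- the permutations
  set t : Perm (ZMod ℓ) := swap (0 : ZMod ℓ) b with ht
  set v : Perm (ZMod ℓ) := t * M * t with hv
  have hEpow : ∀ (k : ℕ) (x : ZMod ℓ), cls x = 0 →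
      (M ^ k) x = x + ((J * k : ℕ) : ZMod ℓ) := by
    intro k
    induction k with
    | zero => intro x _; simp
    | succ k ih =>
      intro x hx
      have hx' : cls (x + (J : ZMod ℓ)) = 0 := by rw [map_add, hx, hclsJ, add_zero]
      rw [pow_succ, Perm.mul_apply, hM1 x hx, ih _ hx']
      push_cast; ring
  have hE0 : ∀ x : ZMod ℓ, cls x = 0 → (M ^ μ) x = x + q := fun x hx => hEpow μ x hx
  have hE1 : ∀ x : ZMod ℓ, cls x ≠ 0 → (M ^ μ) x = x := fun x hx => hMC x hx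
  have hvpow : v ^ μ = t * M ^ μ * t := by
    have h1 : v = t * M * t⁻¹ := by rw [hv, ht, Equiv.swap_inv]
    rw [h1, conj_pow, ht, Equiv.swap_inv]
  set e : Perm (ZMod ℓ) := v ^ μ with he
  have heapp : ∀ y, e y = t ((M ^ μ) (t y)) := by
    intro y; rw [hvpow]; rfl
  have htb : t b = 0 := Equiv.swap_apply_right _ _
  have htne : ∀ y, y ≠ 0 → y ≠ b → t y = y :=
    fun y h0 hb => Equiv.swap_apply_of_ne_of_ne h0 hb
  have he_b : e b = q := by
    rw [heapp, htb, hE0 0 (map_zero cls), zero_add, htne q hq0 hqb]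
  have he_J : e (J : ZMod ℓ) = (J : ZMod ℓ) + q := by
    rw [heapp, htne _ hJne0 hJb, hE0 _ hclsJ, htne _ hJq0 hJqb]
  have he_supp : ∀ y, e y ≠ y → y = b ∨ cls y = 0 := by
    intro y hy
    by_contra hcon
    rw [not_or] at hcon
    apply hy
    have hy0 : y ≠ 0 := by
      intro h; apply hcon.2; rw [h, map_zero]
    rw [heapp, htne y hy0 hcon.1, hE1 y hcon.2, htne y hy0 hcon.1]
  set c : Perm (ZMod ℓ) := rot ℓ with hc
  have hcapp : ∀ y, c y = y + 1 := fun y => rot_apply ℓ y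
  have hcinv : ∀ y, c⁻¹ y = y - 1 := by
    intro y
    rw [Equiv.Perm.inv_eq_iff_eq, hcapp, sub_add_cancel]
  set τ : Perm (ZMod ℓ) := c * e * c⁻¹ with hτ
  have hτapp : ∀ y, τ y = e (y - 1) + 1 := by
    intro y
    rw [hτ, Perm.mul_apply, Perm.mul_apply, hcinv, hcapp]
  have hτ_b : τ b = (J : ZMod ℓ) + q + 1 := by
    have hb1 : b - 1 = (J : ZMod ℓ) := by rw [hb]; ring
    rw [hτapp, hb1, he_J]
  have hτ_supp : ∀ y, τ y ≠ y → y = b + 1 ∨ cls y = 1 := by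
    intro y hy
    have h1 : e (y - 1) ≠ y - 1 := by
      intro h
      apply hy
      rw [hτapp, h, sub_add_cancel]
    rcases he_supp (y - 1) h1 with h | h
    · left; rw [← h, sub_add_cancel]
    · right
      rw [map_sub, map_one, sub_eq_zero] at h
      exact h
  obtain ⟨h3, hθb⟩ := hspo e τ b (by rw [he_b]; exact hqb) (by
      rw [hτ_b]
      intro h
      apply hq0
      have : (J : ZMod ℓ) + q + 1 = (J : ZMod ℓ) + 0 + 1 := by rw [h, hb, add_zero]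
      exact add_left_cancel (add_right_cancel this))
    (by
      intro y hy1 hy2
      rcases he_supp y hy1 with h | h
      · exact h
      · exfalso
        rcases hτ_supp y hy2 with h' | h'
        · rw [h', map_add, hclsb, map_one] at h
          exact h20 h
        · rw [h] at h'; exact h10 h'.symm)
  refine ⟨e * τ * e⁻¹ * τ⁻¹, ?_, h3, b, ?_⟩
  · have hcm : c ∈ Subgroup.closure ({c, v} : Set (Perm (ZMod ℓ))) :=
      Subgroup.subset_closure (Set.mem_insert _ _)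
    have hvm : v ∈ Subgroup.closure ({c, v} : Set (Perm (ZMod ℓ))) :=
      Subgroup.subset_closure (Set.mem_insert_of_mem _ rfl)
    have hem : e ∈ Subgroup.closure ({c, v} : Set (Perm (ZMod ℓ))) := Subgroup.pow_mem _ hvm μ
    have hτm : τ ∈ Subgroup.closure ({c, v} : Set (Perm (ZMod ℓ))) :=
      Subgroup.mul_mem _ (Subgroup.mul_mem _ hcm hem) (Subgroup.inv_mem _ hcm)
    exact Subgroup.mul_mem _ (Subgroup.mul_mem _ (Subgroup.mul_mem _ hem hτm)
      (Subgroup.inv_mem _ hem)) (Subgroup.inv_mem _ hτm)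
  · rw [hθb, he_b]
    obtain ⟨a, ha⟩ := hℓpow
    obtain ⟨w, hw⟩ : ∃ w, μ = w + 1 := ⟨μ - 1, by omega⟩
    have hnil : IsNilpotent ((J * w : ℕ) : ZMod ℓ) := by
      refine ⟨a, ?_⟩
      rw [← Nat.cast_pow, ZMod.natCast_eq_zero_iff, mul_pow]
      have h1 : ℓ ∣ J ^ a := by
        rw [ha]; exact pow_dvd_pow_of_dvd hpJ a
      exact Dvd.dvd.mul_right h1 _
    have hu : q - b = ((J * w : ℕ) : ZMod ℓ) - 1 := by
      rw [hq, hb, hw]; push_cast; ring
    rw [hu]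
    exact hnil.isUnit_sub_one

end Cfsg.Agent.Lib.Helper77.FP
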