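import Cfsg.Agent.Lib.Helper45.FPDefs

/-!
# Leaf PL4 of S2276 (helper45): placement, one 3-orbit and two fixed points each
-/

set_option autoImplicit false

namespace Cfsg.Agent.Lib.Helper77.FP

open Equiv Cfsg.Agent.Lib.Helper45.FP

/-- injectivity of a vector of five pairwise distinct entries -/
theorem pl4_inj5 {α : Type*} (a : Fin 5 → α) (h01 : a 0 ≠ a 1) (h02 : a 0 ≠ a 2)
    (h03 : a 0 ≠ a 3) (h04 : a 0 ≠ a 4) (h12 : a 1 ≠ a 2) (h13 : a 1 ≠ a 3) (h14 : a 1 ≠ a 4)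
    (h23 : a 2 ≠ a 3) (h24 : a 2 ≠ a 4) (h34 : a 3 ≠ a 4) : Function.Injective a := by
  have key : ∀ i j : Fin 5, i < j → a i ≠ a j := by
    intro i j hlt
    fin_cases i <;> fin_cases j <;>
      first
        | exact h01 | exact h02 | exact h03 | exact h04 | exact h12 | exact h13 | exact h14
        | exact h23 | exact h24 | exact h34 | exact absurd hlt (by decide)
  intro i j hij
  by_contra hne
  rcases lt_or_gt_of_ne hne with h | h
  · exact key i j h hij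
  · exact key j i h hij.symm

/-- the three points of a 3-orbit together with two fixed points are distinct -/
theorem pl4_distinct {α : Type*} (u : Perm α) (hu3 : u ^ 3 = 1) (x z₁ z₂ : α) (hx : u x ≠ x)
    (hz1 : u z₁ = z₁) (hz2 : u z₂ = z₂) (hz : z₁ ≠ z₂) :
    u (u (u x)) = x ∧ x ≠ u x ∧ x ≠ u (u x) ∧ u x ≠ u (u x) ∧ x ≠ z₁ ∧ x ≠ z₂ ∧ u x ≠ z₁ ∧
      u x ≠ z₂ ∧ u (u x) ≠ z₁ ∧ u (u x) ≠ z₂ := by
  have h3 : u (u (u x)) = x := by
    have := congrArg (fun f : Perm α => f x) hu3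
    simpa [pow_succ, Perm.mul_apply] using this
  have h12 : u x ≠ u (u x) := fun h => hx (u.injective h).symm
  have h02 : x ≠ u (u x) := by
    intro h
    apply hx
    have := congrArg u h
    rw [h3] at this
    exact this
  have hmov : ∀ z y : α, u z = z → u y ≠ y → y ≠ z := by
    intro z y hz hy h
    rw [h] at hy
    exact hy hz
  have hm1 : u (u x) ≠ u x := fun h => h12 h.symm
  have hm2 : u (u (u x)) ≠ u (u x) := by rw [h3]; exact h02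
  exact ⟨h3, hx.symm, h02, h12, hmov z₁ x hz1 hx, hmov z₂ x hz2 hx, hmov z₁ _ hz1 hm1,
    hmov z₂ _ hz2 hm1, hmov z₁ _ hz1 hm2, hmov z₂ _ hz2 hm2⟩

theorem pl4_cyc012 : ∀ z : Fin 5, cyc3 (0 : Fin 5) 1 2 z = ![1, 2, 0, 3, 4] z := by decide

theorem pl4_cyc234 : ∀ z : Fin 5, cyc3 (2 : Fin 5) 3 4 z = ![0, 1, 3, 4, 2] z := by decide

/-- PL4 -/
theorem PL4 {α : Type*} [Fintype α] [DecidableEq α] (u w : Perm α) (hu3 : u ^ 3 = 1)
    (hw3 : w ^ 3 = 1)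
    (x z₁ z₂ : α) (hx : u x ≠ x) (hz1 : u z₁ = z₁) (hz2 : u z₂ = z₂) (hz : z₁ ≠ z₂)
    (x' y₁ y₂ : α) (hx' : w x' ≠ x') (h1 : w y₁ = y₁) (h2 : w y₂ = y₂) (h12 : y₁ ≠ y₂) :
    ∃ (ι : Fin 5 ↪ α) (h : Perm α),
      (∀ z, u (ι z) = ι ((cyc3 (0 : Fin 5) 1 2) z)) ∧
      (∀ z, (h * w * h⁻¹) (ι z) = ι ((cyc3 (2 : Fin 5) 3 4) z)) := by
  obtain ⟨hu, a01, a02, a12, a03, a04, a13, a14, a23, a24⟩ :=
    pl4_distinct u hu3 x z₁ z₂ hx hz1 hz2 hz
  obtain ⟨hw, b01, b02, b12, b03, b04, b13, b14, b23, b24⟩ :=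
    pl4_distinct w hw3 x' y₁ y₂ hx' h1 h2 h12
  let ι : Fin 5 ↪ α := ⟨![x, u x, u (u x), z₁, z₂],
    pl4_inj5 _ a01 a02 a03 a04 a12 a13 a14 a23 a24 hz⟩
  let e₀ : Fin 5 ↪ α := ⟨![y₁, y₂, x', w x', w (w x')],
    pl4_inj5 _ h12 b03.symm b13.symm b23.symm b04.symm b14.symm b24.symm b01 b02 b12⟩
  obtain ⟨h, hh⟩ := Equiv.Perm.exists_smul_eq_embedding e₀ ι
  have hh' : ∀ z, h (e₀ z) = ι z := by
    intro z
    have := congrArg (fun f : Fin 5 ↪ α => f z) hh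
    simpa [Function.Embedding.smul_apply] using this
  refine ⟨ι, h, ?_, ?_⟩
  · intro z
    rw [pl4_cyc012]
    fin_cases z
    · rfl
    · rfl
    · exact hu
    · exact hz1
    · exact hz2
  · intro z
    have hinv : h⁻¹ (ι z) = e₀ z := by
      rw [Equiv.Perm.inv_eq_iff_eq, hh']
    have hwe : w (e₀ z) = e₀ (![0, 1, 3, 4, 2] z) := by
      fin_cases z
      · exact h1
      · exact h2
      · rfl
      · rfl
      · exact hw
    rw [Perm.mul_apply, Perm.mul_apply, hinv, hwe, hh', pl4_cyc234]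

end Cfsg.Agent.Lib.Helper77.FP
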