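import Cfsg.Agent.Lib.Helper45.FPDefs

/-!
# Leaf RESTR of S2276 (helper45): good pairs transfer along an equivariant embedding

NOTE: the statement needs `p` prime (it is false for composite `p`), so there is one extra
hypothesis `hp : p.Prime` compared with the skeleton.
-/

set_option autoImplicit false

namespace Cfsg.Agent.Lib.Helper77.FP

open Equiv Cfsg.Agent.Lib.Helper45.FP

/-- powers of the product restrict along the embedding -/
theorem restr_pow {α β : Type*} (ι : β ↪ α) (a b : Perm β) (A B : Perm α)
    (hA : ∀ z, A (ι z) = ι (a z)) (hB : ∀ z, B (ι z) = ι (b z)) (N : ℕ) (z : β) :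
    ((A * B) ^ N) (ι z) = ι (((a * b) ^ N) z) := by
  induction N generalizing z with
  | zero => simp
  | succ N ih =>
    rw [pow_succ, pow_succ, Perm.mul_apply, Perm.mul_apply, Perm.mul_apply, Perm.mul_apply,
      hB, hA, ih]

/-- the restriction homomorphism of a subgroup preserving the range of an embedding -/
theorem restr_hom {α β : Type*} (ι : β ↪ α) (H : Subgroup (Perm α))
    (hH : ∀ g ∈ H, ∀ z, ∃ z', ι z' = g (ι z)) :
    ∃ r : H →* Perm β, ∀ (g : H) (z : β), ι (r g z) = (g : Perm α) (ι z) := by
  classical
  let f : H → β → β := fun g z => Classical.choose (hH g g.2 z)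
  have hf : ∀ (g : H) (z : β), ι (f g z) = (g : Perm α) (ι z) :=
    fun g z => Classical.choose_spec (hH g g.2 z)
  let r0 : H → Perm β := fun g =>
    { toFun := f g
      invFun := f g⁻¹
      left_inv := fun z => by
        apply ι.injective
        rw [hf, hf, Subgroup.coe_inv]
        simp
      right_inv := fun z => by
        apply ι.injective
        rw [hf, hf, Subgroup.coe_inv]
        simp }
  have hr0 : ∀ (g : H) (z : β), ι (r0 g z) = (g : Perm α) (ι z) := fun g z => hf g z
  refine ⟨MonoidHom.mk' r0 ?_, fun g z => hr0 g z⟩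
  intro g h
  apply Equiv.ext
  intro z
  apply ι.injective
  rw [Perm.mul_apply, hr0, hr0, hr0, Subgroup.coe_mul, Perm.mul_apply]

/-- RESTR (with `p` prime) -/
theorem RESTR {α β : Type*} [Fintype α] [DecidableEq α] [Fintype β] [DecidableEq β] (p : ℕ)
    (hp : p.Prime)
    (ι : β ↪ α) (a b : Perm β) (A B : Perm α) (hA : ∀ z, A (ι z) = ι (a z))
    (hB : ∀ z, B (ι z) = ι (b z)) (h : Good p a b) : Good p A B := by
  refine ⟨?_, ?_⟩
  · rintro ⟨k, hk⟩
    apply h.1
    have h1 : (A * B) ^ (p ^ k) = 1 := by rw [← hk]; exact pow_orderOf_eq_one _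
    have h2 : (a * b) ^ (p ^ k) = 1 := by
      apply Equiv.ext
      intro z
      apply ι.injective
      rw [← restr_pow ι a b A B hA hB, h1]
      rfl
    obtain ⟨j, -, hj⟩ := (Nat.dvd_prime_pow hp).mp (orderOf_dvd_of_pow_eq_one h2)
    exact ⟨j, hj⟩
  · intro hsol
    apply h.2
    -- the subgroup preserving the range
    let T : Subgroup (Perm α) :=
      { carrier := {g | ∀ x, x ∈ Set.range ι ↔ g x ∈ Set.range ι}
        one_mem' := fun x => Iff.rfl
        mul_mem' := fun {g h} hg hh x => (hh x).trans (hg (h x))
        inv_mem' := fun {g} hg x => by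
          have := hg (g⁻¹ x)
          have e : g (g⁻¹ x) = x := by simp
          rw [e] at this
          exact this.symm }
    have hmemT : ∀ (C : Perm α) (c : Perm β), (∀ z, C (ι z) = ι (c z)) → C ∈ T := by
      intro C c hC x
      constructor
      · rintro ⟨z, rfl⟩
        exact ⟨c z, (hC z).symm⟩
      · rintro ⟨z', hz'⟩
        refine ⟨c⁻¹ z', ?_⟩
        apply C.injective
        have e : c (c⁻¹ z') = z' := by simp
        rw [hC, e, hz']
    have hle : Subgroup.closure ({A, B} : Set (Perm α)) ≤ T := by
      rw [Subgroup.closure_le]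
      rintro x (rfl | rfl)
      · exact hmemT _ a hA
      · exact hmemT _ b hB
    have hH : ∀ g ∈ Subgroup.closure ({A, B} : Set (Perm α)), ∀ z, ∃ z', ι z' = g (ι z) := by
      intro g hg z
      exact ((hle hg) (ι z)).mp ⟨z, rfl⟩
    obtain ⟨r, hr⟩ := restr_hom ι (Subgroup.closure ({A, B} : Set (Perm α))) hH
    have hA' : A ∈ Subgroup.closure ({A, B} : Set (Perm α)) :=
      Subgroup.subset_closure (Set.mem_insert _ _)
    have hB' : B ∈ Subgroup.closure ({A, B} : Set (Perm α)) :=
      Subgroup.subset_closure (Set.mem_insert_of_mem _ rfl)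
    have ha : r ⟨A, hA'⟩ = a := by
      apply Equiv.ext
      intro z
      apply ι.injective
      rw [hr]
      exact hA z
    have hb : r ⟨B, hB'⟩ = b := by
      apply Equiv.ext
      intro z
      apply ι.injective
      rw [hr]
      exact hB z
    have hle2 : Subgroup.closure ({a, b} : Set (Perm β)) ≤ r.range := by
      rw [Subgroup.closure_le]
      rintro x (rfl | rfl)
      · exact ⟨_, ha⟩
      · exact ⟨_, hb⟩
    have hsr : Group.IsSolvable r.range :=
      Group.isSolvable_of_surjective r.rangeRestrict_surjective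
    exact Group.isSolvable_of_isSolvable_injective (Subgroup.inclusion_injective hle2)

end Cfsg.Agent.Lib.Helper77.FP
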