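import Cfsg.Agent.Lib.Helper45.FPDefs

/-!
# Leaf ODDC of S2276 (helper45)
-/

set_option autoImplicit false

namespace Cfsg.Agent.Lib.Helper77.FP

open Equiv Cfsg.Agent.Lib.Helper45.FP

/-- ODDC -/
theorem ODDC {α : Type*} [Fintype α] [DecidableEq α] (p : ℕ) [Fact p.Prime] (w : Perm α) (a : ℕ)
    (S : Finset α) (hS : ∀ x ∈ S, w x ∈ S) (hcard : S.card = p ^ a)
    (hper : ∀ x ∈ S, ∃ i < a, Function.minimalPeriod w x = p ^ i) :
    ∃ x ∈ S, ∃ y ∈ S, Function.minimalPeriod w x = Function.minimalPeriod w y ∧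
      ∀ k : ℕ, (w ^ k) x ≠ y := by
  classical
  have hp : p.Prime := Fact.out
  by_contra hcon
  have hcon' : ∀ x ∈ S, ∀ y ∈ S, Function.minimalPeriod w x = Function.minimalPeriod w y →
      ∃ k : ℕ, (w ^ k) x = y := by
    intro x hx y hy hxy
    by_contra hk
    exact hcon ⟨x, hx, y, hy, hxy, fun k hk' => hk ⟨k, hk'⟩⟩
  set T : ℕ → Finset α := fun i => S.filter (fun x => Function.minimalPeriod w x = p ^ i) with hT
  have h1 : S ⊆ (Finset.range a).biUnion T := by
    intro x hx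
    obtain ⟨i, hi, hxi⟩ := hper x hx
    exact Finset.mem_biUnion.mpr ⟨i, Finset.mem_range.mpr hi, Finset.mem_filter.mpr ⟨hx, hxi⟩⟩
  have h2 : ∀ i, (T i).card ≤ p ^ i := by
    intro i
    rcases (T i).eq_empty_or_nonempty with he | ⟨x₀, hx₀⟩
    · rw [he]; simp
    · have hx₀' := Finset.mem_filter.mp hx₀
      have hsub : T i ⊆ (Finset.range (p ^ i)).image (fun k => (w ^ k) x₀) := by
        intro y hy
        have hy' := Finset.mem_filter.mp hy
        obtain ⟨k, hk⟩ := hcon' x₀ hx₀'.1 y hy'.1 (hx₀'.2.trans hy'.2.symm)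
        refine Finset.mem_image.mpr ⟨k % p ^ i,
          Finset.mem_range.mpr (Nat.mod_lt _ (pow_pos hp.pos i)), ?_⟩
        rw [← hk, ← Equiv.Perm.iterate_eq_pow, ← Equiv.Perm.iterate_eq_pow, ← hx₀'.2]
        exact Function.iterate_mod_minimalPeriod_eq
      calc (T i).card ≤ ((Finset.range (p ^ i)).image (fun k => (w ^ k) x₀)).card :=
            Finset.card_le_card hsub
        _ ≤ (Finset.range (p ^ i)).card := Finset.card_image_le
        _ = p ^ i := Finset.card_range _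
  have h3 : S.card ≤ ∑ i ∈ Finset.range a, p ^ i :=
    calc S.card ≤ ((Finset.range a).biUnion T).card := Finset.card_le_card h1
      _ ≤ ∑ i ∈ Finset.range a, (T i).card := Finset.card_biUnion_le
      _ ≤ ∑ i ∈ Finset.range a, p ^ i := Finset.sum_le_sum (fun i _ => h2 i)
  have h4 : ∑ i ∈ Finset.range a, p ^ i < p ^ a :=
    Nat.geomSum_lt hp.two_le (fun k hk => Finset.mem_range.mp hk)
  omega

end Cfsg.Agent.Lib.Helper77.FP
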