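import Cfsg.Agent.Lib.Helper30.PType

set_option autoImplicit false

/-!
Groups whose maximal subgroups are `p`-nilpotent or of prime index: reduction lemmas.
-/

namespace Cfsg.Agent.Lib.Helper77

open Cfsg Cfsg.Agent.Lib.Helper30

universe u

/-- The kernel of the quotient map lies in every preimage. -/
theorem le_comap_mk' {G : Type*} [Group G] (N : Subgroup G) [N.Normal]
    (M : Subgroup (G ⧸ N)) : N ≤ M.comap (QuotientGroup.mk' N) := by
  intro x hx
  rw [Subgroup.mem_comap]
  have : QuotientGroup.mk' N x = 1 := (QuotientGroup.eq_one_iff x).mpr hx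
  rw [this]; exact one_mem _

/-- The preimage of a coatom of a quotient is a coatom. -/
theorem isCoatom_comap_mk' {G : Type*} [Group G] (N : Subgroup G) [N.Normal]
    (M : Subgroup (G ⧸ N)) (hM : IsCoatom M) : IsCoatom (M.comap (QuotientGroup.mk' N)) := by
  have hsurj := QuotientGroup.mk'_surjective N
  constructor
  · intro h
    apply hM.1
    rw [← Subgroup.map_comap_eq_self_of_surjective hsurj M, h,
      Subgroup.map_top_of_surjective _ hsurj]
  · intro H hH
    have hNH : N ≤ H := (le_comap_mk' N M).trans hH.le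
    have h1 : M < H.map (QuotientGroup.mk' N) := by
      apply lt_of_le_of_ne
      · rw [← Subgroup.map_comap_eq_self_of_surjective hsurj M]
        exact Subgroup.map_mono hH.le
      · intro heq
        have hle : H ≤ M.comap (QuotientGroup.mk' N) := by
          rw [heq]; exact Subgroup.le_comap_map _ _
        exact lt_irrefl _ (hH.trans_le hle)
    have h2 := hM.2 _ h1
    have h3 : H = (H.map (QuotientGroup.mk' N)).comap (QuotientGroup.mk' N) := by
      rw [Subgroup.comap_map_eq, QuotientGroup.ker_mk', sup_eq_left.mpr hNH]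
    rw [h3, h2, Subgroup.comap_top]

/-- The hypothesis "every maximal subgroup is `p`-nilpotent or of prime index" passes to
quotients. -/
theorem hmax_quotient (p : ℕ) [hp : Fact p.Prime] {G : Type*} [Group G] [Finite G]
    (N : Subgroup G) [N.Normal]
    (hmax : ∀ M : Subgroup G, IsCoatom M →
      (∃ K : Subgroup ↥M, K.Normal ∧ ¬ p ∣ Nat.card K ∧ ∃ k : ℕ, K.index = p ^ k) ∨
        (M.index).Prime) :
    ∀ M : Subgroup (G ⧸ N), IsCoatom M →
      (∃ K : Subgroup ↥M, K.Normal ∧ ¬ p ∣ Nat.card K ∧ ∃ k : ℕ, K.index = p ^ k) ∨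
        (M.index).Prime := by
  intro M hM
  have hsurj := QuotientGroup.mk'_surjective N
  rcases hmax _ (isCoatom_comap_mk' N M hM) with ⟨K, hKn, hKp, k, hk⟩ | hpr
  · left
    let f : ↥(M.comap (QuotientGroup.mk' N)) →* ↥M := (QuotientGroup.mk' N).subgroupComap M
    have hf : Function.Surjective f :=
      (QuotientGroup.mk' N).subgroupComap_surjective_of_surjective M hsurj
    refine ⟨K.map f, hKn.map f hf, ?_, ?_⟩
    · intro hd
      exact hKp (hd.trans (Subgroup.card_map_dvd K f))
    · have h1 : (K.map f).index ∣ p ^ k := hk ▸ Subgroup.index_map_dvd K hf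
      obtain ⟨j, -, hj⟩ := (Nat.dvd_prime_pow hp.out).mp h1
      exact ⟨j, hj⟩
  · right
    rw [← Subgroup.index_comap_of_surjective M hsurj]
    exact hpr

/-- `O_p(G / O_p(G)) = 1`. -/
theorem pCore_quotient_pCore_eq_bot (p : ℕ) [Fact p.Prime] {G : Type u} [Group G] [Finite G]
    [(pCore p G).Normal] : pCore p (G ⧸ pCore p G) = ⊥ := by
  rw [eq_bot_iff]
  have hsurj := QuotientGroup.mk'_surjective (pCore p G)
  have hRn : (pCore p (G ⧸ pCore p G)).Normal := pCore_normal p _
  have hRp : IsPGroup p (pCore p (G ⧸ pCore p G)) := pCore_isPGroup p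
  have h1 : (pCore p (G ⧸ pCore p G)).comap (QuotientGroup.mk' (pCore p G)) ≤ pCore p G := by
    apply le_pCore_of_normal (hRn.comap _)
    obtain ⟨a, ha⟩ := IsPGroup.iff_card.mp (pCore_isPGroup p (G := G))
    obtain ⟨b, hb⟩ := IsPGroup.iff_card.mp hRp
    apply IsPGroup.of_card (n := a + b)
    rw [card_comap_mk', ha, hb, ← pow_add]
  intro x hx
  obtain ⟨g, rfl⟩ := hsurj x
  rw [Subgroup.mem_bot]
  exact (QuotientGroup.eq_one_iff g).mpr (h1 hx)

/-- A solvable group has trivial layer. -/
theorem layer_eq_bot_of_isSolvable {H : Type*} [Group H] [Group.IsSolvable H] : layer H = ⊥ :=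
  layer_eq_bot_iff.mpr (fun _ hK => comp_not_solvable hK inferInstance)

/-- In a finite solvable group with `O_{p'} = 1`, `C(O_p) ≤ O_p`. -/
theorem centralizer_pCore_le_of_isSolvable (p : ℕ) [Fact p.Prime] {H : Type u} [Group H]
    [Finite H] [Group.IsSolvable H] (hO : pPrimeCore p H = ⊥) :
    Subgroup.centralizer (pCore p H : Set H) ≤ pCore p H := by
  have h1 := genFitting_eq_pCore_of_cores p hO layer_eq_bot_of_isSolvable
  have h2 := centralizer_genFitting_le (G := H)
  rwa [h1] at h2

/-- If `C(O_p) ≤ O_p` whenever `O_{p'} = 1`, then a nontrivial group with `O_p = 1` has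
`O_{p'} ≠ 1`. -/
theorem pPrimeCore_ne_bot_of_centralizer (p : ℕ) {H : Type u} [Group H] [Nontrivial H]
    (hT : pCore p H = ⊥)
    (hc : pPrimeCore p H = ⊥ → Subgroup.centralizer (pCore p H : Set H) ≤ pCore p H) :
    pPrimeCore p H ≠ ⊥ := by
  intro hO
  have h1 := hc hO
  rw [hT] at h1
  have h2 : (⊤ : Subgroup H) ≤ ⊥ := by
    intro x _
    apply h1
    rw [Subgroup.mem_centralizer_iff]
    intro y hy
    have hy' : y = 1 := Subgroup.mem_bot.mp hy
    rw [hy', one_mul, mul_one]
  exact top_ne_bot (le_bot_iff.mp h2)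

/-- Sylow tower for groups all of whose maximal subgroups have prime index: for every prime `p`
there are normal subgroups `C ≤ D` with `C` a `p'`-group (primes `> p`), `D/C` a `p`-group and
`G/D` involving only primes `< p`. -/
theorem exists_tower_of_prime_index (p : ℕ) [hp : Fact p.Prime] :
    ∀ (n : ℕ) (G : Type u) [Group G] [Finite G], Nat.card G = n →
    (∀ M : Subgroup G, IsCoatom M → M.index.Prime) →
    ∃ C D : Subgroup G, C.Normal ∧ D.Normal ∧ C ≤ D ∧ (Nat.card C).Coprime p ∧
      (∃ k : ℕ, C.relIndex D = p ^ k) ∧ ∀ r : ℕ, r.Prime → r ∣ D.index → r < p := by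
  intro n
  induction n using Nat.strong_induction_on with
  | _ n ih =>
  intro G _ _ hn hmax
  by_cases h1 : Nat.card G = 1
  · refine ⟨⊤, ⊤, inferInstance, inferInstance, le_rfl, ?_, ⟨0, ?_⟩, ?_⟩
    · rw [Subgroup.card_top, h1]; exact Nat.coprime_one_left p
    · rw [Subgroup.relIndex_top_right, Subgroup.index_top, pow_zero]
    · intro r hr hdvd
      rw [Subgroup.index_top] at hdvd
      exact absurd (Nat.dvd_one.mp hdvd) hr.ne_one
  have hcpos : 0 < Nat.card G := Nat.card_pos
  have hne : (Nat.card G).primeFactors.Nonempty := by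
    rw [Nat.nonempty_primeFactors]; omega
  obtain ⟨q, hqmem, hqmax'⟩ : ∃ q ∈ (Nat.card G).primeFactors,
      ∀ r ∈ (Nat.card G).primeFactors, r ≤ q :=
    ⟨_, Finset.max'_mem _ hne, fun r hr => Finset.le_max' _ r hr⟩
  have hqp : q.Prime := Nat.prime_of_mem_primeFactors hqmem
  have hqd : q ∣ Nat.card G := Nat.dvd_of_mem_primeFactors hqmem
  have hqmax : ∀ r : ℕ, r.Prime → r ∣ Nat.card G → r ≤ q := fun r hr hd =>
    hqmax' r (Nat.mem_primeFactors.mpr ⟨hr, hd, hcpos.ne'⟩)
  haveI : Fact q.Prime := ⟨hqp⟩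
  let Q : Sylow q G := default
  have hQn : (Q : Subgroup G).Normal := by
    by_contra hnn
    have hNtop : Subgroup.normalizer ((Q : Subgroup G) : Set G) ≠ ⊤ :=
      fun h => hnn (Subgroup.normalizer_eq_top_iff.mp h)
    obtain ⟨M, hM, hNM⟩ := (eq_top_or_exists_le_coatom _).resolve_left hNtop
    have hr := hmax M hM
    have hQM : (Q : Subgroup G) ≤ M := Subgroup.le_normalizer.trans hNM
    have e1 : Nat.card (Sylow q G) =
        (Subgroup.normalizer ((Q : Subgroup G) : Set G)).index := Q.card_eq_index_normalizer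
    have e2 : Nat.card (Sylow q M) =
        (Subgroup.normalizer ((Q : Subgroup G) : Set G)).relIndex M := by
      have := (Q.subtype hQM).card_eq_index_normalizer
      rw [this]
      show _ = ((Subgroup.normalizer ((Q : Subgroup G) : Set G)).subgroupOf M).index
      rw [Subgroup.subgroupOf_normalizer_eq hQM]
      rfl
    have e3 := Subgroup.relIndex_mul_index hNM
    have m1 : Nat.card (Sylow q G) ≡ 1 [MOD q] := card_sylow_modEq_one q G
    have m2 : Nat.card (Sylow q M) ≡ 1 [MOD q] := card_sylow_modEq_one q M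
    have m3 : M.index ≡ 1 [MOD q] := by
      have h5 : Nat.card (Sylow q M) * M.index ≡ 1 [MOD q] := by
        rw [e2, e3, ← e1]; exact m1
      calc M.index = 1 * M.index := (one_mul _).symm
        _ ≡ Nat.card (Sylow q M) * M.index [MOD q] := Nat.ModEq.mul_right _ m2.symm
        _ ≡ 1 [MOD q] := h5
    have hrle : M.index ≤ q := hqmax _ hr (Subgroup.index_dvd_card M)
    have h2 : M.index % q = 1 % q := m3
    rw [Nat.mod_eq_of_lt hqp.one_lt] at h2
    rcases Nat.lt_or_eq_of_le hrle with hlt | heq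
    · rw [Nat.mod_eq_of_lt hlt] at h2
      exact hr.ne_one h2
    · rw [heq, Nat.mod_self] at h2
      exact absurd h2 (by norm_num)
  rcases lt_trichotomy q p with hlt | heq | hgt
  · refine ⟨⊤, ⊤, inferInstance, inferInstance, le_rfl, ?_, ⟨0, ?_⟩, ?_⟩
    · rw [Subgroup.card_top]
      apply Nat.Coprime.symm
      rw [hp.out.coprime_iff_not_dvd]
      intro hd
      have := hqmax p hp.out hd
      omega
    · rw [Subgroup.relIndex_top_right, Subgroup.index_top, pow_zero]
    · intro r hr hdvd
      rw [Subgroup.index_top] at hdvd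
      exact absurd (Nat.dvd_one.mp hdvd) hr.ne_one
  · refine ⟨⊥, (Q : Subgroup G), inferInstance, hQn, bot_le, ?_, ?_, ?_⟩
    · rw [Subgroup.card_bot]; exact Nat.coprime_one_left p
    · obtain ⟨k, hk⟩ := IsPGroup.iff_card.mp Q.isPGroup'
      exact ⟨k, by rw [Subgroup.relIndex_bot_left, hk, heq]⟩
    · intro r hr hdvd
      have h2 : r ≤ q := hqmax r hr (hdvd.trans (Subgroup.index_dvd_card _))
      have h3 : r ≠ q := by
        rintro rfl
        exact Q.not_dvd_index hdvd
      omega
  · -- pass to the quotient by Q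
    haveI := hQn
    have hQne : (Q : Subgroup G) ≠ ⊥ := Q.ne_bot_of_dvd_card hqd
    have hcardQ : 1 < Nat.card (Q : Subgroup G) := by
      rcases Nat.lt_or_ge 1 (Nat.card (Q : Subgroup G)) with h | h
      · exact h
      · exfalso
        have h3 : Nat.card (Q : Subgroup G) = 1 := by
          have := Nat.card_pos (α := (Q : Subgroup G)); omega
        exact hQne (Subgroup.card_eq_one.mp h3)
    have hlt : Nat.card (G ⧸ (Q : Subgroup G)) < n := by
      have h3 := Subgroup.card_eq_card_quotient_mul_card_subgroup (Q : Subgroup G)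
      rw [hn] at h3
      have h4 : 0 < Nat.card (G ⧸ (Q : Subgroup G)) := Nat.card_pos
      nlinarith
    have hmax' : ∀ M : Subgroup (G ⧸ (Q : Subgroup G)), IsCoatom M → M.index.Prime := by
      intro M hM
      rw [← Subgroup.index_comap_of_surjective M (QuotientGroup.mk'_surjective _)]
      exact hmax _ (isCoatom_comap_mk' _ M hM)
    obtain ⟨C, D, hCn, hDn, hCD, hCcop, ⟨k, hk⟩, hD⟩ :=
      ih _ hlt (G ⧸ (Q : Subgroup G)) rfl hmax'
    have hsurj := QuotientGroup.mk'_surjective (Q : Subgroup G)
    refine ⟨C.comap (QuotientGroup.mk' _), D.comap (QuotientGroup.mk' _), hCn.comap _,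
      hDn.comap _, Subgroup.comap_mono hCD, ?_, ⟨k, ?_⟩, ?_⟩
    · rw [card_comap_mk']
      apply Nat.Coprime.mul_left _ hCcop
      obtain ⟨j, hj⟩ := IsPGroup.iff_card.mp Q.isPGroup'
      rw [hj]
      apply Nat.Coprime.pow_left
      exact (Nat.coprime_primes hqp hp.out).mpr (by omega)
    · rw [Subgroup.relIndex_comap, Subgroup.map_comap_eq_self_of_surjective hsurj, hk]
    · intro r hr hd
      rw [Subgroup.index_comap_of_surjective _ hsurj] at hd
      exact hD r hr hd

/-- Core reduction: if `C(O_p(G)) ≤ O_p(G)`, `O_{p'}(G/O_p(G)) ≠ 1` (when the quotient is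
nontrivial) and every maximal subgroup is `p`-nilpotent or of prime index, then above `O_p(G)`
there are normal subgroups `C ≤ D` with `C/O_p(G)` a `p'`-group, `D/C` a `p`-group and `G/D`
involving only primes less than `p`. -/
theorem exists_chain_of_max (p : ℕ) [hp : Fact p.Prime] {G : Type u} [Group G] [Finite G]
    [hTn : (pCore p G).Normal]
    (hcent : Subgroup.centralizer (pCore p G : Set G) ≤ pCore p G)
    (hquot : Nontrivial (G ⧸ pCore p G) → pPrimeCore p (G ⧸ pCore p G) ≠ ⊥)
    (hmax : ∀ M : Subgroup G, IsCoatom M →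
      (∃ K : Subgroup ↥M, K.Normal ∧ ¬ p ∣ Nat.card K ∧ ∃ k : ℕ, K.index = p ^ k) ∨
        (M.index).Prime) :
    ∃ C D : Subgroup G, C.Normal ∧ D.Normal ∧ pCore p G ≤ C ∧ C ≤ D ∧
      ((pCore p G).relIndex C).Coprime p ∧ (∃ k : ℕ, C.relIndex D = p ^ k) ∧
      ∀ r : ℕ, r.Prime → r ∣ D.index → r < p := by
  have hTp : IsPGroup p (pCore p G) := pCore_isPGroup p
  have hsurj : Function.Surjective (QuotientGroup.mk' (pCore p G)) :=
    QuotientGroup.mk'_surjective _
  -- maximal subgroups of the quotient are p-groups or of prime index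
  have hbar : ∀ M : Subgroup (G ⧸ pCore p G), IsCoatom M →
      (∃ k : ℕ, Nat.card M = p ^ k) ∨ M.index.Prime := by
    intro M hM
    have hM' := isCoatom_comap_mk' (pCore p G) M hM
    have hidx : (M.comap (QuotientGroup.mk' (pCore p G))).index = M.index :=
      Subgroup.index_comap_of_surjective M hsurj
    have hTM : pCore p G ≤ M.comap (QuotientGroup.mk' (pCore p G)) := le_comap_mk' _ M
    rcases hmax _ hM' with ⟨K, hKn, hKodd, k, hk⟩ | hpr
    · left
      have hK'M : K.map (M.comap (QuotientGroup.mk' (pCore p G))).subtype ≤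
          M.comap (QuotientGroup.mk' (pCore p G)) := by
        rintro _ ⟨x, _, rfl⟩; exact x.2
      have hcardK' : Nat.card (K.map (M.comap (QuotientGroup.mk' (pCore p G))).subtype) =
          Nat.card K := card_map_subtype K
      have hinf : K.map (M.comap (QuotientGroup.mk' (pCore p G))).subtype ⊓ pCore p G = ⊥ := by
        apply Subgroup.inf_eq_bot_of_coprime
        rw [hcardK']
        obtain ⟨j, hj⟩ := IsPGroup.iff_card.mp hTp
        rw [hj]
        exact Nat.Coprime.pow_right _ (Nat.Coprime.symm (hp.out.coprime_iff_not_dvd.mpr hKodd))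
      have hTK : pCore p G ≤ Subgroup.normalizer
          ((K.map (M.comap (QuotientGroup.mk' (pCore p G))).subtype : Subgroup G) : Set G) := by
        rw [Subgroup.le_normalizer_iff]
        rintro t ht _ ⟨x, hx, rfl⟩
        exact ⟨⟨t, hTM ht⟩ * x * ⟨t, hTM ht⟩⁻¹, hKn.conj_mem x hx _, rfl⟩
      have hKT : K.map (M.comap (QuotientGroup.mk' (pCore p G))).subtype ≤
          Subgroup.normalizer ((pCore p G : Subgroup G) : Set G) := by
        rw [Subgroup.normalizer_eq_top]; exact le_top
      have hcomm := commute_of_normalize_of_inf_eq_bot hKT hTK hinf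
      have hK'T : K.map (M.comap (QuotientGroup.mk' (pCore p G))).subtype ≤ pCore p G := by
        intro x hx
        apply hcent
        rw [Subgroup.mem_centralizer_iff]
        intro t ht
        exact ((hcomm x hx t ht).eq).symm
      have hK'bot : K.map (M.comap (QuotientGroup.mk' (pCore p G))).subtype = ⊥ := by
        rw [← hinf]; exact le_antisymm (le_inf le_rfl hK'T) inf_le_left
      have hKbot : K = ⊥ :=
        (Subgroup.map_eq_bot_iff_of_injective _ (Subgroup.subtype_injective _)).mp hK'bot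
      have hcardM : Nat.card (M.comap (QuotientGroup.mk' (pCore p G))) = p ^ k := by
        rw [← hk, hKbot, Subgroup.index_bot]
      have hdvd : Nat.card M ∣ p ^ k := by
        rw [← hcardM]
        have := Subgroup.card_map_dvd (M.comap (QuotientGroup.mk' (pCore p G)))
          (QuotientGroup.mk' (pCore p G))
        rwa [Subgroup.map_comap_eq_self_of_surjective hsurj] at this
      obtain ⟨j, -, hj⟩ := (Nat.dvd_prime_pow hp.out).mp hdvd
      exact ⟨j, hj⟩
    · right; rw [← hidx]; exact hpr
  -- the chain in the quotient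
  have hQ : ∃ C D : Subgroup (G ⧸ pCore p G), C.Normal ∧ D.Normal ∧ C ≤ D ∧
      (Nat.card C).Coprime p ∧ (∃ k : ℕ, C.relIndex D = p ^ k) ∧
      ∀ r : ℕ, r.Prime → r ∣ D.index → r < p := by
    by_cases hex : ∃ M : Subgroup (G ⧸ pCore p G), IsCoatom M ∧ ∃ k : ℕ, Nat.card M = p ^ k
    · obtain ⟨M, hM, k, hk⟩ := hex
      have hnt : Nontrivial (G ⧸ pCore p G) := by
        by_contra hnt
        rw [not_nontrivial_iff_subsingleton] at hnt
        exact hM.1 (Subsingleton.elim _ _)
      have hne := hquot hnt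
      have hCn : (pPrimeCore p (G ⧸ pCore p G)).Normal := pPrimeCore_normal p _
      have hCcop : (Nat.card (pPrimeCore p (G ⧸ pCore p G))).Coprime p := pPrimeCore_coprime p
      have hCM : ¬ pPrimeCore p (G ⧸ pCore p G) ≤ M := by
        intro hle
        have h1 : Nat.card (pPrimeCore p (G ⧸ pCore p G)) ∣ p ^ k :=
          hk ▸ Subgroup.card_dvd_of_le hle
        have h2 : Nat.card (pPrimeCore p (G ⧸ pCore p G)) = 1 :=
          Nat.Coprime.eq_one_of_dvd (Nat.Coprime.pow_right k hCcop) h1
        exact hne (Subgroup.card_eq_one.mp h2)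
      have hsup : M ⊔ pPrimeCore p (G ⧸ pCore p G) = ⊤ :=
        hM.2 _ (lt_of_le_of_ne le_sup_left (fun h => hCM (h ▸ le_sup_right)))
      refine ⟨pPrimeCore p (G ⧸ pCore p G), ⊤, hCn, inferInstance, le_top, hCcop, ?_, ?_⟩
      · have h1 : (pPrimeCore p (G ⧸ pCore p G)).relIndex M =
            (pPrimeCore p (G ⧸ pCore p G)).index := by
          rw [← Subgroup.relIndex_sup_right (H := M) (K := pPrimeCore p (G ⧸ pCore p G)), hsup,
            Subgroup.relIndex_top_right]
        have h2 : (pPrimeCore p (G ⧸ pCore p G)).relIndex M ∣ p ^ k :=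
          hk ▸ Subgroup.relIndex_dvd_card _ M
        rw [Subgroup.relIndex_top_right, ← h1]
        obtain ⟨j, -, hj⟩ := (Nat.dvd_prime_pow hp.out).mp h2
        exact ⟨j, hj⟩
      · intro r hr hd
        rw [Subgroup.index_top] at hd
        exact absurd (Nat.dvd_one.mp hd) hr.ne_one
    · push Not at hex
      apply exists_tower_of_prime_index p _ (G ⧸ pCore p G) rfl
      intro M hM
      rcases hbar M hM with ⟨k, hk⟩ | h
      · exact absurd hk (hex M hM k)
      · exact h
  obtain ⟨C, D, hCn, hDn, hCD, hCcop, ⟨k, hk⟩, hD⟩ := hQ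
  refine ⟨C.comap (QuotientGroup.mk' (pCore p G)), D.comap (QuotientGroup.mk' (pCore p G)),
    hCn.comap _, hDn.comap _, le_comap_mk' _ C, Subgroup.comap_mono hCD, ?_, ⟨k, ?_⟩, ?_⟩
  · have h1 := Subgroup.relIndex_ker (K := C.comap (QuotientGroup.mk' (pCore p G)))
      (QuotientGroup.mk' (pCore p G))
    rw [QuotientGroup.ker_mk'] at h1
    rw [h1, Subgroup.map_comap_eq_self_of_surjective hsurj]
    exact hCcop
  · rw [Subgroup.relIndex_comap, Subgroup.map_comap_eq_self_of_surjective hsurj, hk]
  · intro r hr hd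
    rw [Subgroup.index_comap_of_surjective _ hsurj] at hd
    exact hD r hr hd

end Cfsg.Agent.Lib.Helper77
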