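import Cfsg.Agent.Lib.Helper77.OrdType

set_option autoImplicit false
set_option maxRecDepth 1000000

namespace Cfsg.Agent.Lib.Helper77

/-- a group mapping to a solvable group with abelian kernel is solvable -/
theorem isSolvable_of_hom {K Q : Type*} [Group K] [Group Q] [Group.IsSolvable Q] (π : K →* Q)
    (h : ∀ a b : K, π a = 1 → π b = 1 → a * b = b * a) : Group.IsSolvable K := by
  have : Group.IsSolvable π.ker :=
    Group.isSolvable_of_comm (fun a b => Subtype.ext (h a.1 b.1 a.2 b.2))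
  exact Group.isSolvable_of_ker_le_range π.ker.subtype π (by simp)

/-! ### cyclic groups -/

instance exp84C2 : Exp84 (Multiplicative (ZMod 2)) := ⟨by decide⟩
instance exp84C3 : Exp84 (Multiplicative (ZMod 3)) := ⟨by decide⟩
instance exp84C4 : Exp84 (Multiplicative (ZMod 4)) := ⟨by decide⟩
instance exp84C7 : Exp84 (Multiplicative (ZMod 7)) := ⟨by decide⟩

/-- the sign character of the cyclic group of order 4 -/
def chiC4 : Multiplicative (ZMod 4) →* ℤˣ :=
  MonoidHom.mk' (fun k => (-1 : ℤˣ) ^ (Multiplicative.toAdd k).val) (by decide)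

/-! ### dihedral groups -/

/-- the character of a dihedral group with kernel the rotations -/
def chiD (n : ℕ) : DihedralGroup n →* ℤˣ :=
  MonoidHom.mk' (fun g => match g with
    | DihedralGroup.r _ => 1
    | DihedralGroup.sr _ => -1)
    (by intro a b; cases a <;> cases b <;> rfl)

/-- a character of the dihedral group of order 8 whose kernel is a four-group -/
def chiD4b : DihedralGroup 4 →* ℤˣ :=
  MonoidHom.mk' (fun g => match g with
    | DihedralGroup.r i => (-1 : ℤˣ) ^ i.val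
    | DihedralGroup.sr i => (-1 : ℤˣ) ^ i.val)
    (by decide)

instance exp84D3 : Exp84 (DihedralGroup 3) := ⟨by decide⟩
instance exp84D4 : Exp84 (DihedralGroup 4) := ⟨by decide⟩
instance exp84D7 : Exp84 (DihedralGroup 7) := ⟨by decide⟩

instance isSolvableDihedral (n : ℕ) : Group.IsSolvable (DihedralGroup n) :=
  isSolvable_of_hom (chiD n) (by
    intro a b ha hb
    cases a with
    | r i =>
      cases b with
      | r j => simp [add_comm]
      | sr j => exact absurd (show (-1 : ℤˣ) = 1 from hb) (by decide)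
    | sr i => exact absurd (show (-1 : ℤˣ) = 1 from ha) (by decide))

/-! ### the Frobenius group of order 42 -/

/-- the affine group of the field with 7 elements: `x ↦ 3 ^ u * x + b` -/
structure F42 where
  b : ZMod 7
  u : ZMod 6
  deriving DecidableEq, Fintype

/-- powers of the primitive root 3 modulo 7 -/
def pw6 (u : ZMod 6) : ZMod 7 := 3 ^ u.val

theorem pw6_add : ∀ u v : ZMod 6, pw6 (u + v) = pw6 u * pw6 v := by decide

instance : Mul F42 := ⟨fun x y => ⟨x.b + pw6 x.u * y.b, x.u + y.u⟩⟩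
instance : One F42 := ⟨⟨0, 0⟩⟩
instance : Inv F42 := ⟨fun x => ⟨-(pw6 (-x.u) * x.b), -x.u⟩⟩

theorem F42.mul_def (x y : F42) : x * y = ⟨x.b + pw6 x.u * y.b, x.u + y.u⟩ := rfl

instance : Group F42 where
  mul_assoc x y z := by
    simp only [F42.mul_def, pw6_add]
    congr 1
    · ring
    · ring
  one_mul := by decide
  mul_one := by decide
  inv_mul_cancel := by decide

/-- the sign character of the Frobenius group of order 42 -/
def chiF42 : F42 →* ℤˣ :=
  MonoidHom.mk' (fun x => (-1 : ℤˣ) ^ x.u.val) (by decide)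

/-- the projection of the Frobenius group of order 42 onto its cyclic quotient -/
def piF42 : F42 →* Multiplicative (ZMod 6) :=
  MonoidHom.mk' (fun x => Multiplicative.ofAdd x.u) (by intro a b; rfl)

instance exp84F42 : Exp84 F42 := ⟨by decide⟩

instance isSolvableF42 : Group.IsSolvable F42 :=
  isSolvable_of_hom piF42 (by decide)


/-! ### the group of semilinear affine maps of the field with 8 elements -/

/-- vectors over the field with two elements, seen as the field with 8 elements -/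
abbrev V8 := ZMod 2 × ZMod 2 × ZMod 2

/-- multiplication by a primitive element -/
def sig (v : V8) : V8 := (v.2.2, v.1 + v.2.2, v.2.1)

/-- the Frobenius map -/
def frob (v : V8) : V8 := (v.1, v.2.2, v.2.1 + v.2.2)

/-- powers of 2 modulo 7 -/
def pw3 (k : ZMod 3) : ZMod 7 := 2 ^ k.val

/-- the semilinear map `x ↦ α ^ a * x ^ (2 ^ k)` -/
def act (a : ZMod 7) (k : ZMod 3) (v : V8) : V8 := sig^[a.val] (frob^[k.val] v)

theorem pw3_add : ∀ k l : ZMod 3, pw3 (k + l) = pw3 k * pw3 l := by decide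

theorem act_add : ∀ (a : ZMod 7) (k : ZMod 3) (w w' : V8),
    act a k (w + w') = act a k w + act a k w' := by decide

theorem act_act : ∀ (a : ZMod 7) (k : ZMod 3) (b : ZMod 7) (l : ZMod 3) (u : V8),
    act a k (act b l u) = act (a + pw3 k * b) (k + l) u := by decide

/-- the group of maps `x ↦ α ^ a * x ^ (2 ^ k) + v` of the field with 8 elements, of order 168 -/
structure B168 where
  v : V8
  a : ZMod 7
  k : ZMod 3
  deriving DecidableEq, Fintype

instance : Mul B168 :=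
  ⟨fun x y => ⟨x.v + act x.a x.k y.v, x.a + pw3 x.k * y.a, x.k + y.k⟩⟩
instance : One B168 := ⟨⟨0, 0, 0⟩⟩
instance : Inv B168 :=
  ⟨fun x => ⟨act (-(pw3 (-x.k) * x.a)) (-x.k) x.v, -(pw3 (-x.k) * x.a), -x.k⟩⟩

theorem B168.mul_def (x y : B168) :
    x * y = ⟨x.v + act x.a x.k y.v, x.a + pw3 x.k * y.a, x.k + y.k⟩ := rfl

instance : Group B168 where
  mul_assoc x y z := by
    simp only [B168.mul_def, act_add, act_act, pw3_add]
    congr 1
    · rw [add_assoc]
    · ring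
    · ring
  one_mul := by decide
  mul_one := by decide
  inv_mul_cancel := by decide

theorem pw6_two_mul : ∀ k : ZMod 3, pw6 (2 * (k.val : ZMod 6)) = pw3 k := by decide

theorem two_mul_val_add : ∀ k l : ZMod 3,
    (2 * ((k + l).val : ZMod 6)) = 2 * (k.val : ZMod 6) + 2 * (l.val : ZMod 6) := by decide

/-- the projection onto the Frobenius group of order 21, inside the one of order 42 -/
def piB168 : B168 →* F42 :=
  MonoidHom.mk' (fun x => ⟨x.a, 2 * (x.k.val : ZMod 6)⟩) (by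
    intro x y
    simp only [B168.mul_def, F42.mul_def, pw6_two_mul, two_mul_val_add])

instance exp84B168 : Exp84 B168 := ⟨by decide⟩

instance isSolvableB168 : Group.IsSolvable B168 :=
  isSolvable_of_hom piB168 (by decide)

/-! ### tables -/

theorem tb_chiC4_p_1 : gsol chiC4 1 1 = 1 := by
  rw [gsol_eq_card]; decide

theorem tb_chiC4_p_2 : gsol chiC4 1 2 = 2 := by
  rw [gsol_eq_card]; decide

theorem tb_chiC4_p_3 : gsol chiC4 1 3 = 1 := by
  rw [gsol_eq_card]; decide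

theorem tb_chiC4_p_4 : gsol chiC4 1 4 = 2 := by
  rw [gsol_eq_card]; decide

theorem tb_chiC4_p_6 : gsol chiC4 1 6 = 2 := by
  rw [gsol_eq_card]; decide

theorem tb_chiC4_p_7 : gsol chiC4 1 7 = 1 := by
  rw [gsol_eq_card]; decide

theorem tb_chiC4_p_12 : gsol chiC4 1 12 = 2 := by
  rw [gsol_eq_card]; decide

theorem tb_chiC4_p_14 : gsol chiC4 1 14 = 2 := by
  rw [gsol_eq_card]; decide

theorem tb_chiC4_p_21 : gsol chiC4 1 21 = 1 := by
  rw [gsol_eq_card]; decide

theorem tb_chiC4_p_28 : gsol chiC4 1 28 = 2 := by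
  rw [gsol_eq_card]; decide

theorem tb_chiC4_p_42 : gsol chiC4 1 42 = 2 := by
  rw [gsol_eq_card]; decide

theorem tb_chiC4_p_84 : gsol chiC4 1 84 = 2 := by
  rw [gsol_eq_card]; decide

theorem tb_chiC4_m_1 : gsol chiC4 (-1) 1 = 0 := by
  rw [gsol_eq_card]; decide

theorem tb_chiC4_m_2 : gsol chiC4 (-1) 2 = 0 := by
  rw [gsol_eq_card]; decide

theorem tb_chiC4_m_3 : gsol chiC4 (-1) 3 = 0 := by
  rw [gsol_eq_card]; decide

theorem tb_chiC4_m_4 : gsol chiC4 (-1) 4 = 2 := by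
  rw [gsol_eq_card]; decide

theorem tb_chiC4_m_6 : gsol chiC4 (-1) 6 = 0 := by
  rw [gsol_eq_card]; decide

theorem tb_chiC4_m_7 : gsol chiC4 (-1) 7 = 0 := by
  rw [gsol_eq_card]; decide

theorem tb_chiC4_m_12 : gsol chiC4 (-1) 12 = 2 := by
  rw [gsol_eq_card]; decide

theorem tb_chiC4_m_14 : gsol chiC4 (-1) 14 = 0 := by
  rw [gsol_eq_card]; decide

theorem tb_chiC4_m_21 : gsol chiC4 (-1) 21 = 0 := by
  rw [gsol_eq_card]; decide

theorem tb_chiC4_m_28 : gsol chiC4 (-1) 28 = 2 := by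
  rw [gsol_eq_card]; decide

theorem tb_chiC4_m_42 : gsol chiC4 (-1) 42 = 0 := by
  rw [gsol_eq_card]; decide

theorem tb_chiC4_m_84 : gsol chiC4 (-1) 84 = 2 := by
  rw [gsol_eq_card]; decide

theorem tb_chiD3_p_1 : gsol (chiD 3) 1 1 = 1 := by
  rw [gsol_eq_card]; decide

theorem tb_chiD3_p_2 : gsol (chiD 3) 1 2 = 1 := by
  rw [gsol_eq_card]; decide

theorem tb_chiD3_p_3 : gsol (chiD 3) 1 3 = 3 := by
  rw [gsol_eq_card]; decide

theorem tb_chiD3_p_4 : gsol (chiD 3) 1 4 = 1 := by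
  rw [gsol_eq_card]; decide

theorem tb_chiD3_p_6 : gsol (chiD 3) 1 6 = 3 := by
  rw [gsol_eq_card]; decide

theorem tb_chiD3_p_7 : gsol (chiD 3) 1 7 = 1 := by
  rw [gsol_eq_card]; decide

theorem tb_chiD3_p_12 : gsol (chiD 3) 1 12 = 3 := by
  rw [gsol_eq_card]; decide

theorem tb_chiD3_p_14 : gsol (chiD 3) 1 14 = 1 := by
  rw [gsol_eq_card]; decide

theorem tb_chiD3_p_21 : gsol (chiD 3) 1 21 = 3 := by
  rw [gsol_eq_card]; decide

theorem tb_chiD3_p_28 : gsol (chiD 3) 1 28 = 1 := by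
  rw [gsol_eq_card]; decide

theorem tb_chiD3_p_42 : gsol (chiD 3) 1 42 = 3 := by
  rw [gsol_eq_card]; decide

theorem tb_chiD3_p_84 : gsol (chiD 3) 1 84 = 3 := by
  rw [gsol_eq_card]; decide

theorem tb_chiD3_m_1 : gsol (chiD 3) (-1) 1 = 0 := by
  rw [gsol_eq_card]; decide

theorem tb_chiD3_m_2 : gsol (chiD 3) (-1) 2 = 3 := by
  rw [gsol_eq_card]; decide

theorem tb_chiD3_m_3 : gsol (chiD 3) (-1) 3 = 0 := by
  rw [gsol_eq_card]; decide

theorem tb_chiD3_m_4 : gsol (chiD 3) (-1) 4 = 3 := by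
  rw [gsol_eq_card]; decide

theorem tb_chiD3_m_6 : gsol (chiD 3) (-1) 6 = 3 := by
  rw [gsol_eq_card]; decide

theorem tb_chiD3_m_7 : gsol (chiD 3) (-1) 7 = 0 := by
  rw [gsol_eq_card]; decide

theorem tb_chiD3_m_12 : gsol (chiD 3) (-1) 12 = 3 := by
  rw [gsol_eq_card]; decide

theorem tb_chiD3_m_14 : gsol (chiD 3) (-1) 14 = 3 := by
  rw [gsol_eq_card]; decide

theorem tb_chiD3_m_21 : gsol (chiD 3) (-1) 21 = 0 := by
  rw [gsol_eq_card]; decide

theorem tb_chiD3_m_28 : gsol (chiD 3) (-1) 28 = 3 := by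
  rw [gsol_eq_card]; decide

theorem tb_chiD3_m_42 : gsol (chiD 3) (-1) 42 = 3 := by
  rw [gsol_eq_card]; decide

theorem tb_chiD3_m_84 : gsol (chiD 3) (-1) 84 = 3 := by
  rw [gsol_eq_card]; decide

theorem tb_chiD7_p_1 : gsol (chiD 7) 1 1 = 1 := by
  rw [gsol_eq_card]; decide

theorem tb_chiD7_p_2 : gsol (chiD 7) 1 2 = 1 := by
  rw [gsol_eq_card]; decide

theorem tb_chiD7_p_3 : gsol (chiD 7) 1 3 = 1 := by
  rw [gsol_eq_card]; decide

theorem tb_chiD7_p_4 : gsol (chiD 7) 1 4 = 1 := by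
  rw [gsol_eq_card]; decide

theorem tb_chiD7_p_6 : gsol (chiD 7) 1 6 = 1 := by
  rw [gsol_eq_card]; decide

theorem tb_chiD7_p_7 : gsol (chiD 7) 1 7 = 7 := by
  rw [gsol_eq_card]; decide

theorem tb_chiD7_p_12 : gsol (chiD 7) 1 12 = 1 := by
  rw [gsol_eq_card]; decide

theorem tb_chiD7_p_14 : gsol (chiD 7) 1 14 = 7 := by
  rw [gsol_eq_card]; decide

theorem tb_chiD7_p_21 : gsol (chiD 7) 1 21 = 7 := by
  rw [gsol_eq_card]; decide

theorem tb_chiD7_p_28 : gsol (chiD 7) 1 28 = 7 := by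
  rw [gsol_eq_card]; decide

theorem tb_chiD7_p_42 : gsol (chiD 7) 1 42 = 7 := by
  rw [gsol_eq_card]; decide

theorem tb_chiD7_p_84 : gsol (chiD 7) 1 84 = 7 := by
  rw [gsol_eq_card]; decide

theorem tb_chiD7_m_1 : gsol (chiD 7) (-1) 1 = 0 := by
  rw [gsol_eq_card]; decide

theorem tb_chiD7_m_2 : gsol (chiD 7) (-1) 2 = 7 := by
  rw [gsol_eq_card]; decide

theorem tb_chiD7_m_3 : gsol (chiD 7) (-1) 3 = 0 := by
  rw [gsol_eq_card]; decide

theorem tb_chiD7_m_4 : gsol (chiD 7) (-1) 4 = 7 := by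
  rw [gsol_eq_card]; decide

theorem tb_chiD7_m_6 : gsol (chiD 7) (-1) 6 = 7 := by
  rw [gsol_eq_card]; decide

theorem tb_chiD7_m_7 : gsol (chiD 7) (-1) 7 = 0 := by
  rw [gsol_eq_card]; decide

theorem tb_chiD7_m_12 : gsol (chiD 7) (-1) 12 = 7 := by
  rw [gsol_eq_card]; decide

theorem tb_chiD7_m_14 : gsol (chiD 7) (-1) 14 = 7 := by
  rw [gsol_eq_card]; decide

theorem tb_chiD7_m_21 : gsol (chiD 7) (-1) 21 = 0 := by
  rw [gsol_eq_card]; decide

theorem tb_chiD7_m_28 : gsol (chiD 7) (-1) 28 = 7 := by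
  rw [gsol_eq_card]; decide

theorem tb_chiD7_m_42 : gsol (chiD 7) (-1) 42 = 7 := by
  rw [gsol_eq_card]; decide

theorem tb_chiD7_m_84 : gsol (chiD 7) (-1) 84 = 7 := by
  rw [gsol_eq_card]; decide

theorem tb_chiD4_p_1 : gsol (chiD 4) 1 1 = 1 := by
  rw [gsol_eq_card]; decide

theorem tb_chiD4_p_2 : gsol (chiD 4) 1 2 = 2 := by
  rw [gsol_eq_card]; decide

theorem tb_chiD4_p_3 : gsol (chiD 4) 1 3 = 1 := by
  rw [gsol_eq_card]; decide

theorem tb_chiD4_p_4 : gsol (chiD 4) 1 4 = 4 := by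
  rw [gsol_eq_card]; decide

theorem tb_chiD4_p_6 : gsol (chiD 4) 1 6 = 2 := by
  rw [gsol_eq_card]; decide

theorem tb_chiD4_p_7 : gsol (chiD 4) 1 7 = 1 := by
  rw [gsol_eq_card]; decide

theorem tb_chiD4_p_12 : gsol (chiD 4) 1 12 = 4 := by
  rw [gsol_eq_card]; decide

theorem tb_chiD4_p_14 : gsol (chiD 4) 1 14 = 2 := by
  rw [gsol_eq_card]; decide

theorem tb_chiD4_p_21 : gsol (chiD 4) 1 21 = 1 := by
  rw [gsol_eq_card]; decide

theorem tb_chiD4_p_28 : gsol (chiD 4) 1 28 = 4 := by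
  rw [gsol_eq_card]; decide

theorem tb_chiD4_p_42 : gsol (chiD 4) 1 42 = 2 := by
  rw [gsol_eq_card]; decide

theorem tb_chiD4_p_84 : gsol (chiD 4) 1 84 = 4 := by
  rw [gsol_eq_card]; decide

theorem tb_chiD4_m_1 : gsol (chiD 4) (-1) 1 = 0 := by
  rw [gsol_eq_card]; decide

theorem tb_chiD4_m_2 : gsol (chiD 4) (-1) 2 = 4 := by
  rw [gsol_eq_card]; decide

theorem tb_chiD4_m_3 : gsol (chiD 4) (-1) 3 = 0 := by
  rw [gsol_eq_card]; decide

theorem tb_chiD4_m_4 : gsol (chiD 4) (-1) 4 = 4 := by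
  rw [gsol_eq_card]; decide

theorem tb_chiD4_m_6 : gsol (chiD 4) (-1) 6 = 4 := by
  rw [gsol_eq_card]; decide

theorem tb_chiD4_m_7 : gsol (chiD 4) (-1) 7 = 0 := by
  rw [gsol_eq_card]; decide

theorem tb_chiD4_m_12 : gsol (chiD 4) (-1) 12 = 4 := by
  rw [gsol_eq_card]; decide

theorem tb_chiD4_m_14 : gsol (chiD 4) (-1) 14 = 4 := by
  rw [gsol_eq_card]; decide

theorem tb_chiD4_m_21 : gsol (chiD 4) (-1) 21 = 0 := by
  rw [gsol_eq_card]; decide

theorem tb_chiD4_m_28 : gsol (chiD 4) (-1) 28 = 4 := by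
  rw [gsol_eq_card]; decide

theorem tb_chiD4_m_42 : gsol (chiD 4) (-1) 42 = 4 := by
  rw [gsol_eq_card]; decide

theorem tb_chiD4_m_84 : gsol (chiD 4) (-1) 84 = 4 := by
  rw [gsol_eq_card]; decide

theorem tb_chiD4b_p_1 : gsol chiD4b 1 1 = 1 := by
  rw [gsol_eq_card]; decide

theorem tb_chiD4b_p_2 : gsol chiD4b 1 2 = 4 := by
  rw [gsol_eq_card]; decide

theorem tb_chiD4b_p_3 : gsol chiD4b 1 3 = 1 := by
  rw [gsol_eq_card]; decide

theorem tb_chiD4b_p_4 : gsol chiD4b 1 4 = 4 := by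
  rw [gsol_eq_card]; decide

theorem tb_chiD4b_p_6 : gsol chiD4b 1 6 = 4 := by
  rw [gsol_eq_card]; decide

theorem tb_chiD4b_p_7 : gsol chiD4b 1 7 = 1 := by
  rw [gsol_eq_card]; decide

theorem tb_chiD4b_p_12 : gsol chiD4b 1 12 = 4 := by
  rw [gsol_eq_card]; decide

theorem tb_chiD4b_p_14 : gsol chiD4b 1 14 = 4 := by
  rw [gsol_eq_card]; decide

theorem tb_chiD4b_p_21 : gsol chiD4b 1 21 = 1 := by
  rw [gsol_eq_card]; decide

theorem tb_chiD4b_p_28 : gsol chiD4b 1 28 = 4 := by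
  rw [gsol_eq_card]; decide

theorem tb_chiD4b_p_42 : gsol chiD4b 1 42 = 4 := by
  rw [gsol_eq_card]; decide

theorem tb_chiD4b_p_84 : gsol chiD4b 1 84 = 4 := by
  rw [gsol_eq_card]; decide

theorem tb_chiD4b_m_1 : gsol chiD4b (-1) 1 = 0 := by
  rw [gsol_eq_card]; decide

theorem tb_chiD4b_m_2 : gsol chiD4b (-1) 2 = 2 := by
  rw [gsol_eq_card]; decide

theorem tb_chiD4b_m_3 : gsol chiD4b (-1) 3 = 0 := by
  rw [gsol_eq_card]; decide

theorem tb_chiD4b_m_4 : gsol chiD4b (-1) 4 = 4 := by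
  rw [gsol_eq_card]; decide

theorem tb_chiD4b_m_6 : gsol chiD4b (-1) 6 = 2 := by
  rw [gsol_eq_card]; decide

theorem tb_chiD4b_m_7 : gsol chiD4b (-1) 7 = 0 := by
  rw [gsol_eq_card]; decide

theorem tb_chiD4b_m_12 : gsol chiD4b (-1) 12 = 4 := by
  rw [gsol_eq_card]; decide

theorem tb_chiD4b_m_14 : gsol chiD4b (-1) 14 = 2 := by
  rw [gsol_eq_card]; decide

theorem tb_chiD4b_m_21 : gsol chiD4b (-1) 21 = 0 := by
  rw [gsol_eq_card]; decide

theorem tb_chiD4b_m_28 : gsol chiD4b (-1) 28 = 4 := by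
  rw [gsol_eq_card]; decide

theorem tb_chiD4b_m_42 : gsol chiD4b (-1) 42 = 2 := by
  rw [gsol_eq_card]; decide

theorem tb_chiD4b_m_84 : gsol chiD4b (-1) 84 = 4 := by
  rw [gsol_eq_card]; decide

theorem tb_chiF42_p_1 : gsol chiF42 1 1 = 1 := by
  rw [gsol_eq_card]; decide

theorem tb_chiF42_p_2 : gsol chiF42 1 2 = 1 := by
  rw [gsol_eq_card]; decide

theorem tb_chiF42_p_3 : gsol chiF42 1 3 = 15 := by
  rw [gsol_eq_card]; decide

theorem tb_chiF42_p_4 : gsol chiF42 1 4 = 1 := by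
  rw [gsol_eq_card]; decide

theorem tb_chiF42_p_6 : gsol chiF42 1 6 = 15 := by
  rw [gsol_eq_card]; decide

theorem tb_chiF42_p_7 : gsol chiF42 1 7 = 7 := by
  rw [gsol_eq_card]; decide

theorem tb_chiF42_p_12 : gsol chiF42 1 12 = 15 := by
  rw [gsol_eq_card]; decide

theorem tb_chiF42_p_14 : gsol chiF42 1 14 = 7 := by
  rw [gsol_eq_card]; decide

theorem tb_chiF42_p_21 : gsol chiF42 1 21 = 21 := by
  rw [gsol_eq_card]; decide

theorem tb_chiF42_p_28 : gsol chiF42 1 28 = 7 := by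
  rw [gsol_eq_card]; decide

theorem tb_chiF42_p_42 : gsol chiF42 1 42 = 21 := by
  rw [gsol_eq_card]; decide

theorem tb_chiF42_p_84 : gsol chiF42 1 84 = 21 := by
  rw [gsol_eq_card]; decide

theorem tb_chiF42_m_1 : gsol chiF42 (-1) 1 = 0 := by
  rw [gsol_eq_card]; decide

theorem tb_chiF42_m_2 : gsol chiF42 (-1) 2 = 7 := by
  rw [gsol_eq_card]; decide

theorem tb_chiF42_m_3 : gsol chiF42 (-1) 3 = 0 := by
  rw [gsol_eq_card]; decide

theorem tb_chiF42_m_4 : gsol chiF42 (-1) 4 = 7 := by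
  rw [gsol_eq_card]; decide

theorem tb_chiF42_m_6 : gsol chiF42 (-1) 6 = 21 := by
  rw [gsol_eq_card]; decide

theorem tb_chiF42_m_7 : gsol chiF42 (-1) 7 = 0 := by
  rw [gsol_eq_card]; decide

theorem tb_chiF42_m_12 : gsol chiF42 (-1) 12 = 21 := by
  rw [gsol_eq_card]; decide

theorem tb_chiF42_m_14 : gsol chiF42 (-1) 14 = 7 := by
  rw [gsol_eq_card]; decide

theorem tb_chiF42_m_21 : gsol chiF42 (-1) 21 = 0 := by
  rw [gsol_eq_card]; decide

theorem tb_chiF42_m_28 : gsol chiF42 (-1) 28 = 7 := by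
  rw [gsol_eq_card]; decide

theorem tb_chiF42_m_42 : gsol chiF42 (-1) 42 = 21 := by
  rw [gsol_eq_card]; decide

theorem tb_chiF42_m_84 : gsol chiF42 (-1) 84 = 21 := by
  rw [gsol_eq_card]; decide

theorem tb_C2_1 : nsol (Multiplicative (ZMod 2)) 1 = 1 := by
  rw [nsol_eq_card]; decide

theorem tb_C2_2 : nsol (Multiplicative (ZMod 2)) 2 = 2 := by
  rw [nsol_eq_card]; decide

theorem tb_C2_3 : nsol (Multiplicative (ZMod 2)) 3 = 1 := by
  rw [nsol_eq_card]; decide

theorem tb_C2_4 : nsol (Multiplicative (ZMod 2)) 4 = 2 := by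
  rw [nsol_eq_card]; decide

theorem tb_C2_6 : nsol (Multiplicative (ZMod 2)) 6 = 2 := by
  rw [nsol_eq_card]; decide

theorem tb_C2_7 : nsol (Multiplicative (ZMod 2)) 7 = 1 := by
  rw [nsol_eq_card]; decide

theorem tb_C2_12 : nsol (Multiplicative (ZMod 2)) 12 = 2 := by
  rw [nsol_eq_card]; decide

theorem tb_C2_14 : nsol (Multiplicative (ZMod 2)) 14 = 2 := by
  rw [nsol_eq_card]; decide

theorem tb_C2_21 : nsol (Multiplicative (ZMod 2)) 21 = 1 := by
  rw [nsol_eq_card]; decide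

theorem tb_C2_28 : nsol (Multiplicative (ZMod 2)) 28 = 2 := by
  rw [nsol_eq_card]; decide

theorem tb_C2_42 : nsol (Multiplicative (ZMod 2)) 42 = 2 := by
  rw [nsol_eq_card]; decide

theorem tb_C2_84 : nsol (Multiplicative (ZMod 2)) 84 = 2 := by
  rw [nsol_eq_card]; decide

theorem tb_C3_1 : nsol (Multiplicative (ZMod 3)) 1 = 1 := by
  rw [nsol_eq_card]; decide

theorem tb_C3_2 : nsol (Multiplicative (ZMod 3)) 2 = 1 := by
  rw [nsol_eq_card]; decide

theorem tb_C3_3 : nsol (Multiplicative (ZMod 3)) 3 = 3 := by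
  rw [nsol_eq_card]; decide

theorem tb_C3_4 : nsol (Multiplicative (ZMod 3)) 4 = 1 := by
  rw [nsol_eq_card]; decide

theorem tb_C3_6 : nsol (Multiplicative (ZMod 3)) 6 = 3 := by
  rw [nsol_eq_card]; decide

theorem tb_C3_7 : nsol (Multiplicative (ZMod 3)) 7 = 1 := by
  rw [nsol_eq_card]; decide

theorem tb_C3_12 : nsol (Multiplicative (ZMod 3)) 12 = 3 := by
  rw [nsol_eq_card]; decide

theorem tb_C3_14 : nsol (Multiplicative (ZMod 3)) 14 = 1 := by
  rw [nsol_eq_card]; decide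

theorem tb_C3_21 : nsol (Multiplicative (ZMod 3)) 21 = 3 := by
  rw [nsol_eq_card]; decide

theorem tb_C3_28 : nsol (Multiplicative (ZMod 3)) 28 = 1 := by
  rw [nsol_eq_card]; decide

theorem tb_C3_42 : nsol (Multiplicative (ZMod 3)) 42 = 3 := by
  rw [nsol_eq_card]; decide

theorem tb_C3_84 : nsol (Multiplicative (ZMod 3)) 84 = 3 := by
  rw [nsol_eq_card]; decide

theorem tb_C7_1 : nsol (Multiplicative (ZMod 7)) 1 = 1 := by
  rw [nsol_eq_card]; decide

theorem tb_C7_2 : nsol (Multiplicative (ZMod 7)) 2 = 1 := by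
  rw [nsol_eq_card]; decide

theorem tb_C7_3 : nsol (Multiplicative (ZMod 7)) 3 = 1 := by
  rw [nsol_eq_card]; decide

theorem tb_C7_4 : nsol (Multiplicative (ZMod 7)) 4 = 1 := by
  rw [nsol_eq_card]; decide

theorem tb_C7_6 : nsol (Multiplicative (ZMod 7)) 6 = 1 := by
  rw [nsol_eq_card]; decide

theorem tb_C7_7 : nsol (Multiplicative (ZMod 7)) 7 = 7 := by
  rw [nsol_eq_card]; decide

theorem tb_C7_12 : nsol (Multiplicative (ZMod 7)) 12 = 1 := by
  rw [nsol_eq_card]; decide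

theorem tb_C7_14 : nsol (Multiplicative (ZMod 7)) 14 = 7 := by
  rw [nsol_eq_card]; decide

theorem tb_C7_21 : nsol (Multiplicative (ZMod 7)) 21 = 7 := by
  rw [nsol_eq_card]; decide

theorem tb_C7_28 : nsol (Multiplicative (ZMod 7)) 28 = 7 := by
  rw [nsol_eq_card]; decide

theorem tb_C7_42 : nsol (Multiplicative (ZMod 7)) 42 = 7 := by
  rw [nsol_eq_card]; decide

theorem tb_C7_84 : nsol (Multiplicative (ZMod 7)) 84 = 7 := by
  rw [nsol_eq_card]; decide

theorem tb_B168_1 : nsol B168 1 = 1 := by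
  rw [nsol_eq_card]; decide

theorem tb_B168_2 : nsol B168 2 = 8 := by
  rw [nsol_eq_card]; decide

theorem tb_B168_3 : nsol B168 3 = 57 := by
  rw [nsol_eq_card]; decide

theorem tb_B168_4 : nsol B168 4 = 8 := by
  rw [nsol_eq_card]; decide

theorem tb_B168_6 : nsol B168 6 = 120 := by
  rw [nsol_eq_card]; decide

theorem tb_B168_7 : nsol B168 7 = 49 := by
  rw [nsol_eq_card]; decide

theorem tb_B168_12 : nsol B168 12 = 120 := by
  rw [nsol_eq_card]; decide

theorem tb_B168_14 : nsol B168 14 = 56 := by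
  rw [nsol_eq_card]; decide

theorem tb_B168_21 : nsol B168 21 = 105 := by
  rw [nsol_eq_card]; decide

theorem tb_B168_28 : nsol B168 28 = 56 := by
  rw [nsol_eq_card]; decide

theorem tb_B168_42 : nsol B168 42 = 168 := by
  rw [nsol_eq_card]; decide

theorem tb_B168_84 : nsol B168 84 = 168 := by
  rw [nsol_eq_card]; decide

end Cfsg.Agent.Lib.Helper77
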