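import Cfsg.Agent.S4354

set_option autoImplicit false

/-!
Camina–Herzog: if every `2`-element of a finite group centralizes a Sylow `2`-subgroup, then
the Sylow `2`-subgroups are abelian.  Elementary proof (no `Z*`-theorem).
-/

namespace Cfsg.Agent.Lib.Helper77

open Cfsg Cfsg.Agent.S4354

section

variable {G : Type*} [Group G] [Finite G]

/-- Two `p`-subgroups `A`, `B` of a subgroup `K`: some `K`-conjugate of `A` lies together with
`B` in a Sylow `p`-subgroup of `G`. -/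
theorem ch_conj_pair (p : ℕ) [Fact p.Prime] (K A B : Subgroup G) (hA : IsPGroup p A)
    (hB : IsPGroup p B) (hAK : A ≤ K) (hBK : B ≤ K) :
    ∃ g ∈ K, ∃ P₁ : Sylow p G, B ≤ (P₁ : Subgroup G) ∧ ∀ a ∈ A, g⁻¹ * a * g ∈ P₁ := by
  classical
  obtain ⟨T₁, hT₁⟩ := (hB.comap_subtype (K := K)).exists_le_sylow
  obtain ⟨T₂, hT₂⟩ := (hA.comap_subtype (K := K)).exists_le_sylow
  obtain ⟨g, hg⟩ := MulAction.exists_smul_eq K T₁ T₂
  obtain ⟨P₁, hP₁⟩ := (T₁.2.map K.subtype).exists_le_sylow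
  refine ⟨(g : G), g.2, P₁, ?_, ?_⟩
  · intro b hb
    apply hP₁
    exact ⟨⟨b, hBK hb⟩, hT₁ (Subgroup.mem_subgroupOf.mpr hb), rfl⟩
  · intro a ha
    apply hP₁
    have h1 : (⟨a, hAK ha⟩ : K) ∈ T₂ := hT₂ (Subgroup.mem_subgroupOf.mpr ha)
    rw [← hg, mem_smul_sylow] at h1
    exact ⟨_, h1, rfl⟩

/-- A `p`-subgroup `A` of a subgroup `K` containing a Sylow `p`-subgroup `Q` of `G` is
`K`-conjugate into `Q`. -/
theorem ch_conj_into (p : ℕ) [Fact p.Prime] (K : Subgroup G) (Q : Sylow p G)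
    (hQ : (Q : Subgroup G) ≤ K) (A : Subgroup G) (hA : IsPGroup p A) (hAK : A ≤ K) :
    ∃ g ∈ K, ∀ a ∈ A, g⁻¹ * a * g ∈ Q := by
  obtain ⟨g, hg, P₁, hQP, h⟩ := ch_conj_pair p K A (Q : Subgroup G) hA Q.2 hAK hQ
  have : (P₁ : Subgroup G) = Q := Q.3 P₁.2 hQP
  refine ⟨g, hg, fun a ha => ?_⟩
  have h1 : g⁻¹ * a * g ∈ (P₁ : Subgroup G) := h a ha
  rw [this] at h1
  exact h1

/-- The key lemma: if a Sylow `2`-subgroup `Q` centralizes `x` and `c` with `c² = 1`, and a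
`2`-element `y` centralizes `c` and maps `x` to `x * c`, then `c = 1`. -/
theorem ch_star (Q : Sylow 2 G) (x c y : G) (hcc : c * c = 1)
    (hQx : ∀ q ∈ Q, q * x = x * q) (hQc : ∀ q ∈ Q, q * c = c * q)
    (hyc : y * c = c * y) (hyx : y * x * y⁻¹ = x * c) (hy : ∃ k : ℕ, orderOf y = 2 ^ k) :
    c = 1 := by
  classical
  have : Fact (Nat.Prime 2) := ⟨Nat.prime_two⟩
  have hcinv : c⁻¹ = c := inv_eq_of_mul_eq_one_left hcc
  let K₁ : Subgroup G :=
    { carrier := {h | h * c = c * h ∧ (h * x * h⁻¹ = x ∨ h * x * h⁻¹ = x * c)}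
      one_mem' := by
        refine ⟨by simp, Or.inl (by simp)⟩
      mul_mem' := by
        rintro a b ⟨ha1, ha2⟩ ⟨hb1, hb2⟩
        refine ⟨by rw [mul_assoc, hb1, ← mul_assoc, ha1, mul_assoc], ?_⟩
        have e1 : a * b * x * (a * b)⁻¹ = a * (b * x * b⁻¹) * a⁻¹ := by group
        have hac : a * c * a⁻¹ = c := by rw [ha1, mul_inv_cancel_right]
        rcases hb2 with hb2 | hb2
        · rw [e1, hb2]; exact ha2
        · rw [e1, hb2]
          have e2 : a * (x * c) * a⁻¹ = (a * x * a⁻¹) * (a * c * a⁻¹) := by group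
          rw [e2, hac]
          rcases ha2 with ha2 | ha2
          · right; rw [ha2]
          · left; rw [ha2, mul_assoc, hcc, mul_one]
      inv_mem' := by
        rintro a ⟨ha1, ha2⟩
        have hac : a⁻¹ * c * a = c := by rw [mul_assoc, ← ha1, inv_mul_cancel_left]
        have hac2 : a⁻¹ * c = c * a⁻¹ := by
          calc a⁻¹ * c = a⁻¹ * c * a * a⁻¹ := by group
            _ = c * a⁻¹ := by rw [hac]
        refine ⟨hac2, ?_⟩
        rcases ha2 with ha2 | ha2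
        · left
          calc a⁻¹ * x * a⁻¹⁻¹ = a⁻¹ * x * a := by rw [inv_inv]
            _ = a⁻¹ * (a * x * a⁻¹) * a := by rw [ha2]
            _ = x := by group
        · right
          have : a⁻¹ * x * a⁻¹⁻¹ * c = x := by
            calc a⁻¹ * x * a⁻¹⁻¹ * c = a⁻¹ * x * a * (a⁻¹ * c * a) := by rw [hac, inv_inv]
              _ = a⁻¹ * (x * c) * a := by group
              _ = a⁻¹ * (a * x * a⁻¹) * a := by rw [ha2]
              _ = x := by group
          calc a⁻¹ * x * a⁻¹⁻¹ = a⁻¹ * x * a⁻¹⁻¹ * c * c⁻¹ := by group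
            _ = x * c := by rw [this, hcinv] }
  have hQK : (Q : Subgroup G) ≤ K₁ := by
    intro q hq
    refine ⟨hQc q hq, Or.inl ?_⟩
    rw [hQx q hq, mul_inv_cancel_right]
  have hyK : y ∈ K₁ := ⟨hyc, Or.inr hyx⟩
  have hzp : IsPGroup 2 (Subgroup.zpowers y) := by
    obtain ⟨k, hk⟩ := hy
    exact IsPGroup.of_card (n := k) (by rw [Nat.card_zpowers]; exact hk)
  obtain ⟨g, hg, hgA⟩ := ch_conj_into 2 K₁ Q hQK (Subgroup.zpowers y) hzp
    (by rw [Subgroup.zpowers_le]; exact hyK)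
  have hq := hgA y (Subgroup.mem_zpowers y)
  have hginv : g⁻¹ ∈ K₁ := K₁.inv_mem hg
  obtain ⟨-, hg2⟩ := hginv
  rw [inv_inv] at hg2
  have hqx : (g⁻¹ * y * g) * (g⁻¹ * x * g) = (g⁻¹ * x * g) * (g⁻¹ * y * g) := by
    rcases hg2 with hg2 | hg2
    · rw [hg2]; exact hQx _ hq
    · rw [hg2, ← mul_assoc, hQx _ hq, mul_assoc, hQc _ hq, ← mul_assoc]
  have hyx' : y * x = x * y := by
    calc y * x = g * ((g⁻¹ * y * g) * (g⁻¹ * x * g)) * g⁻¹ := by group
      _ = g * ((g⁻¹ * x * g) * (g⁻¹ * y * g)) * g⁻¹ := by rw [hqx]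
      _ = x * y := by group
  rw [hyx', mul_inv_cancel_right] at hyx
  exact (left_eq_mul.mp hyx)

/-- The hypothesis of the Camina–Herzog theorem: every `2`-element is centralized by a Sylow
`2`-subgroup. -/
def ChHyp (G : Type*) [Group G] : Prop :=
  ∀ x : G, (∃ k : ℕ, orderOf x = 2 ^ k) → ∃ Q : Sylow 2 G, ∀ q ∈ Q, q * x = x * q

theorem ch_no_inv4 (hP : ChHyp G) (w y : G) (hw4 : w * w * (w * w) = 1)
    (hy : ∃ k : ℕ, orderOf y = 2 ^ k) (hyw : y * w * y⁻¹ = w⁻¹) : w * w = 1 := by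
  have hw : ∃ j : ℕ, orderOf w = 2 ^ j := by
    have h4 : w ^ (2 ^ 2) = 1 := by
      have : w ^ (2 ^ 2) = w * w * (w * w) := by
        rw [show (2 : ℕ) ^ 2 = 2 + 2 from rfl, pow_add, pow_two]
      rw [this, hw4]
    obtain ⟨j, -, hj⟩ := (Nat.dvd_prime_pow Nat.prime_two).mp (orderOf_dvd_of_pow_eq_one h4)
    exact ⟨j, hj⟩
  obtain ⟨Q, hQ⟩ := hP w hw
  have hyw' : y * w = w⁻¹ * y := by
    rw [← hyw]; group
  have hinv : (w * w)⁻¹ = w * w := inv_eq_of_mul_eq_one_left hw4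
  apply ch_star Q w (w * w) y hw4 hQ
  · intro q hq
    rw [← mul_assoc, hQ q hq, mul_assoc, hQ q hq, mul_assoc]
  · calc y * (w * w) = (y * w) * w := by rw [mul_assoc]
      _ = w⁻¹ * (y * w) := by conv_lhs => rw [hyw', mul_assoc]
      _ = (w * w)⁻¹ * y := by rw [hyw', mul_inv_rev, mul_assoc]
      _ = w * w * y := by rw [hinv]
  · rw [hyw]
    apply inv_eq_of_mul_eq_one_right
    rw [← hw4]; group
  · exact hy

theorem ch_inv_sq (hP : ChHyp G) (s ρ : G) (hs : ∃ k : ℕ, orderOf s = 2 ^ k)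
    (hsρ : s * ρ * s⁻¹ = ρ⁻¹) : ∀ k : ℕ, ρ ^ (2 ^ (k + 1)) = 1 → ρ * ρ = 1 := by
  intro k
  induction k with
  | zero =>
    intro h
    rw [← pow_two]
    simpa using h
  | succ k ih =>
    intro h
    apply ih
    have hw4 : ρ ^ (2 ^ k) * ρ ^ (2 ^ k) * (ρ ^ (2 ^ k) * ρ ^ (2 ^ k)) = 1 := by
      rw [← pow_add, ← pow_add, ← h]
      congr 1
      ring
    have hsw : s * ρ ^ (2 ^ k) * s⁻¹ = (ρ ^ (2 ^ k))⁻¹ := by
      rw [← conj_pow, hsρ, inv_pow]
    have := ch_no_inv4 hP (ρ ^ (2 ^ k)) s hw4 hs hsw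
    rw [← this, ← pow_add]
    congr 1
    ring

/-- Under the hypothesis, two involutions of a Sylow `2`-subgroup commute. -/
theorem ch_inv_comm (hP : ChHyp G) (P : Sylow 2 G) (s s' : G) (hs : s ∈ P) (hs' : s' ∈ P)
    (h1 : s * s = 1) (h2 : s' * s' = 1) : s * s' = s' * s := by
  have : Fact (Nat.Prime 2) := ⟨Nat.prime_two⟩
  have hsinv : s⁻¹ = s := inv_eq_of_mul_eq_one_left h1
  have hs'inv : s'⁻¹ = s' := inv_eq_of_mul_eq_one_left h2
  have hρ : s * s' ∈ P := mul_mem hs hs'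
  obtain ⟨k, hk⟩ := orderOf_of_mem_sylow 2 P _ hρ
  have hk1 : (s * s') ^ (2 ^ (k + 1)) = 1 := by
    rw [pow_succ, pow_mul, ← hk, pow_orderOf_eq_one, one_pow]
  have hc : s * (s * s') * s⁻¹ = (s * s')⁻¹ := by
    rw [mul_inv_rev, hs'inv, ← mul_assoc, h1, one_mul]
  have h3 := ch_inv_sq hP s (s * s') (orderOf_of_mem_sylow 2 P s hs) hc k hk1
  have h4 : s * s' = (s * s')⁻¹ := (inv_eq_of_mul_eq_one_left h3).symm
  rw [mul_inv_rev, hsinv, hs'inv] at h4
  exact h4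

/-- The subgroup of all elements of order at most `2` of a Sylow `2`-subgroup. -/
def chOm (hP : ChHyp G) (P : Sylow 2 G) : Subgroup G where
  carrier := {g | g ∈ P ∧ g * g = 1}
  one_mem' := ⟨one_mem _, by simp⟩
  mul_mem' := by
    rintro a b ⟨ha, ha2⟩ ⟨hb, hb2⟩
    refine ⟨mul_mem ha hb, ?_⟩
    have := ch_inv_comm hP P a b ha hb ha2 hb2
    calc a * b * (a * b) = a * (b * a) * b := by group
      _ = a * (a * b) * b := by rw [this]
      _ = (a * a) * (b * b) := by group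
      _ = 1 := by rw [ha2, hb2, one_mul]
  inv_mem' := by
    rintro a ⟨ha, ha2⟩
    exact ⟨inv_mem ha, by rw [← mul_inv_rev, ha2, inv_one]⟩

theorem mem_chOm (hP : ChHyp G) (P : Sylow 2 G) (g : G) :
    g ∈ chOm hP P ↔ g ∈ P ∧ g * g = 1 := Iff.rfl

theorem chOm_le (hP : ChHyp G) (P : Sylow 2 G) : chOm hP P ≤ (P : Subgroup G) :=
  fun _ hg => hg.1

theorem chOm_comm (hP : ChHyp G) (P : Sylow 2 G) (a b : G) (ha : a ∈ chOm hP P)
    (hb : b ∈ chOm hP P) : a * b = b * a :=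
  ch_inv_comm hP P a b ha.1 hb.1 ha.2 hb.2

theorem chOm_isPGroup (hP : ChHyp G) (P : Sylow 2 G) : IsPGroup 2 (chOm hP P) :=
  P.2.to_le (chOm_le hP P)

theorem card_chOm (hP : ChHyp G) (P P' : Sylow 2 G) :
    Nat.card (chOm hP P) = Nat.card (chOm hP P') := by
  have : Fact (Nat.Prime 2) := ⟨Nat.prime_two⟩
  obtain ⟨g, rfl⟩ := MulAction.exists_smul_eq G P P'
  refine Nat.card_congr
    { toFun := fun s => ⟨g * s.1 * g⁻¹, ?_, ?_⟩
      invFun := fun s => ⟨g⁻¹ * s.1 * g, ?_, ?_⟩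
      left_inv := fun s => Subtype.ext (by simp [mul_assoc])
      right_inv := fun s => Subtype.ext (by simp [mul_assoc]) }
  · rw [mem_smul_sylow]
    have : g⁻¹ * (g * s.1 * g⁻¹) * g = s.1 := by group
    rw [this]; exact s.2.1
  · calc g * s.1 * g⁻¹ * (g * s.1 * g⁻¹) = g * (s.1 * s.1) * g⁻¹ := by group
      _ = 1 := by rw [s.2.2]; group
  · have := s.2.1
    rw [mem_smul_sylow] at this
    exact this
  · calc g⁻¹ * s.1 * g * (g⁻¹ * s.1 * g) = g⁻¹ * (s.1 * s.1) * g := by group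
      _ = 1 := by rw [s.2.2]; group

theorem chOm_eq_of_le (hP : ChHyp G) (P P₁ : Sylow 2 G)
    (h : chOm hP P ≤ (P₁ : Subgroup G)) : chOm hP P = chOm hP P₁ := by
  apply Subgroup.eq_of_le_of_card_ge
  · intro s hs
    exact ⟨h hs, hs.2⟩
  · exact (card_chOm hP P P₁).ge

/-- Under the hypothesis, a `2`-subgroup centralizing a `2`-element `y` lies in a Sylow
`2`-subgroup centralizing `y`. -/
theorem ch_sylow_cent (hP : ChHyp G) (y : G) (hy : ∃ k : ℕ, orderOf y = 2 ^ k)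
    (A : Subgroup G) (hA : IsPGroup 2 A) (hAy : ∀ a ∈ A, a * y = y * a) :
    ∃ Q : Sylow 2 G, (∀ q ∈ Q, q * y = y * q) ∧ A ≤ (Q : Subgroup G) := by
  have : Fact (Nat.Prime 2) := ⟨Nat.prime_two⟩
  obtain ⟨Q₀, hQ₀⟩ := hP y hy
  have hmemK : ∀ q : G, q ∈ Subgroup.centralizer ({y} : Set G) ↔ q * y = y * q := by
    intro q
    rw [Subgroup.mem_centralizer_iff]
    constructor
    · intro h; exact (h y rfl).symm
    · intro h z hz
      rw [Set.mem_singleton_iff.mp hz]; exact h.symm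
  obtain ⟨g, hg, hgA⟩ := ch_conj_into 2 (Subgroup.centralizer ({y} : Set G)) Q₀
    (fun q hq => (hmemK q).mpr (hQ₀ q hq)) A hA (fun a ha => (hmemK a).mpr (hAy a ha))
  have hgy : g * y = y * g := (hmemK g).mp hg
  refine ⟨g • Q₀, ?_, ?_⟩
  · intro q hq
    rw [mem_smul_sylow] at hq
    have h1 := hQ₀ _ hq
    have hgy' : g * y * g⁻¹ = y := by rw [hgy, mul_inv_cancel_right]
    calc q * y = q * (g * y * g⁻¹) := by rw [hgy']
      _ = g * ((g⁻¹ * q * g) * y) * g⁻¹ := by group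
      _ = g * (y * (g⁻¹ * q * g)) * g⁻¹ := by rw [h1]
      _ = (g * y * g⁻¹) * q := by group
      _ = y * q := by rw [hgy']
  · intro a ha
    show a ∈ (g • Q₀ : Sylow 2 G)
    rw [mem_smul_sylow]
    exact hgA a ha

omit [Finite G] in
theorem ch_mem_cent (y q : G) :
    q ∈ Subgroup.centralizer ({y} : Set G) ↔ q * y = y * q := by
  rw [Subgroup.mem_centralizer_iff]
  constructor
  · intro h; exact (h y rfl).symm
  · intro h z hz
    rw [Set.mem_singleton_iff.mp hz]; exact h.symm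

/-- Under the hypothesis, the involutions of a Sylow `2`-subgroup are central in it. -/
theorem ch_Om_central_aux (hP : ChHyp G) : ∀ k : ℕ, ∀ (P : Sylow 2 G) (y : G), y ∈ P →
    y ^ (2 ^ k) = 1 → ∀ s ∈ chOm hP P, y * s = s * y := by
  have : Fact (Nat.Prime 2) := ⟨Nat.prime_two⟩
  intro k
  induction k with
  | zero =>
    intro P y _ hy s _
    have : y = 1 := by simpa using hy
    rw [this, one_mul, mul_one]
  | succ k ih =>
    intro P y hyP hyk s hs
    have hy2 : ∀ t ∈ chOm hP P, (y * y) * t = t * (y * y) := by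
      apply ih P (y * y) (mul_mem hyP hyP)
      rw [← pow_two, ← pow_mul, ← hyk]
      congr 1
      ring
    obtain ⟨V, hVdef⟩ : ∃ V : Subgroup G,
        V = chOm hP P ⊓ Subgroup.centralizer ({y} : Set G) := ⟨_, rfl⟩
    have hVmem : ∀ v : G, v ∈ V ↔ v ∈ chOm hP P ∧ v * y = y * v := by
      intro v
      rw [hVdef, Subgroup.mem_inf, ch_mem_cent]
    have hV2 : IsPGroup 2 V := (chOm_isPGroup hP P).to_le (by rw [hVdef]; exact inf_le_left)
    obtain ⟨Q, hQy, hVQ⟩ := ch_sylow_cent hP y (orderOf_of_mem_sylow 2 P y hyP) V hV2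
      (fun a ha => ((hVmem a).mp ha).2)
    have hVE' : ∀ v ∈ V, v ∈ chOm hP Q := fun v hv => ⟨hVQ hv, ((hVmem v).mp hv).1.2⟩
    have hyE' : ∀ e ∈ chOm hP Q, e * y = y * e := fun e he => hQy e he.1
    let M : Subgroup G :=
      { carrier := {g | (∀ v ∈ V, g * v = v * g) ∧ g⁻¹ * (y * g * y⁻¹) ∈ V}
        one_mem' := by
          refine ⟨by simp, ?_⟩
          have : (1 : G)⁻¹ * (y * 1 * y⁻¹) = 1 := by group
          rw [this]; exact one_mem _
        mul_mem' := by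
          rintro a b ⟨ha1, ha2⟩ ⟨hb1, hb2⟩
          refine ⟨fun v hv => by rw [mul_assoc, hb1 v hv, ← mul_assoc, ha1 v hv, mul_assoc], ?_⟩
          have e : (a * b)⁻¹ * (y * (a * b) * y⁻¹)
              = b⁻¹ * (a⁻¹ * (y * a * y⁻¹)) * b * (b⁻¹ * (y * b * y⁻¹)) := by group
          rw [e, mul_assoc b⁻¹, ← hb1 _ ha2, inv_mul_cancel_left]
          exact mul_mem ha2 hb2
        inv_mem' := by
          rintro a ⟨ha1, ha2⟩
          refine ⟨fun v hv => by
            rw [eq_mul_inv_iff_mul_eq, mul_assoc, ← ha1 v hv, inv_mul_cancel_left], ?_⟩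
          have e : a⁻¹⁻¹ * (y * a⁻¹ * y⁻¹) = a * (a⁻¹ * (y * a * y⁻¹))⁻¹ * a⁻¹ := by group
          rw [e, ha1 _ (inv_mem ha2), mul_inv_cancel_right]
          exact inv_mem ha2 }
    have hEM : chOm hP P ≤ M := by
      intro t ht
      refine ⟨fun v hv => chOm_comm hP P t v ht ((hVmem v).mp hv).1, ?_⟩
      have htinv : t⁻¹ = t := inv_eq_of_mul_eq_one_left ht.2
      have hu : y * t * y⁻¹ ∈ chOm hP P := by
        refine ⟨mul_mem (mul_mem hyP ht.1) (inv_mem hyP), ?_⟩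
        calc y * t * y⁻¹ * (y * t * y⁻¹) = y * (t * t) * y⁻¹ := by group
          _ = 1 := by rw [ht.2]; group
      have huinv : (y * t * y⁻¹)⁻¹ = y * t * y⁻¹ := inv_eq_of_mul_eq_one_left hu.2
      have hcomm : t * (y * t * y⁻¹) = (y * t * y⁻¹) * t := chOm_comm hP P _ _ ht hu
      have h1 : y * (t⁻¹ * (y * t * y⁻¹)) * y⁻¹ = t⁻¹ * (y * t * y⁻¹) := by
        calc y * (t⁻¹ * (y * t * y⁻¹)) * y⁻¹
            = (y * t * y⁻¹)⁻¹ * ((y * y * t) * (y * y)⁻¹) := by group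
          _ = (y * t * y⁻¹)⁻¹ * t := by rw [hy2 t ht, mul_inv_cancel_right]
          _ = (y * t * y⁻¹) * t := by rw [huinv]
          _ = t * (y * t * y⁻¹) := hcomm.symm
          _ = t⁻¹ * (y * t * y⁻¹) := by rw [htinv]
      rw [hVmem]
      refine ⟨mul_mem (inv_mem ht) hu, ?_⟩
      calc t⁻¹ * (y * t * y⁻¹) * y = (y * (t⁻¹ * (y * t * y⁻¹)) * y⁻¹) * y := by rw [h1]
        _ = y * (t⁻¹ * (y * t * y⁻¹)) := by group
    have hE'M : chOm hP Q ≤ M := by
      intro e he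
      refine ⟨fun v hv => chOm_comm hP Q e v he (hVE' v hv), ?_⟩
      have : e⁻¹ * (y * e * y⁻¹) = 1 := by
        rw [← hyE' e he, mul_inv_cancel_right, inv_mul_cancel]
      rw [this]; exact one_mem _
    obtain ⟨g, hgM, P₁, hE'P₁, hgE⟩ := ch_conj_pair 2 M (chOm hP P) (chOm hP Q)
      (chOm_isPGroup hP P) (chOm_isPGroup hP Q) hEM hE'M
    have hE'eq : chOm hP Q = chOm hP P₁ := chOm_eq_of_le hP Q P₁ hE'P₁
    obtain ⟨k', hk'def⟩ : ∃ k' : G, k' = g⁻¹ * s * g := ⟨_, rfl⟩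
    have hk'P₁ : k' ∈ P₁ := by rw [hk'def]; exact hgE s hs
    have hk'2 : k' * k' = 1 := by
      rw [hk'def]
      calc g⁻¹ * s * g * (g⁻¹ * s * g) = g⁻¹ * (s * s) * g := by group
        _ = 1 := by rw [hs.2]; group
    have hk'E' : k' ∈ chOm hP Q := by
      rw [hE'eq]; exact ⟨hk'P₁, hk'2⟩
    have hky : k' * y = y * k' := hyE' k' hk'E'
    obtain ⟨hg1, hg2⟩ := hgM
    obtain ⟨v, hvdef⟩ : ∃ v : G, v = g⁻¹ * (y * g * y⁻¹) := ⟨_, rfl⟩
    rw [← hvdef] at hg2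
    have hvk : v * k' = k' * v := chOm_comm hP Q v k' (hVE' v hg2) hk'E'
    have hygy : y * g * y⁻¹ = g * v := by rw [hvdef]; group
    have hyky : y * k' * y⁻¹ = k' := by rw [← hky, mul_inv_cancel_right]
    have hvkv : v * k' * v⁻¹ = k' := by rw [hvk, mul_inv_cancel_right]
    have hs_eq : s = g * k' * g⁻¹ := by rw [hk'def]; group
    have h2 : y * s * y⁻¹ = s := by
      calc y * s * y⁻¹ = (y * g * y⁻¹) * (y * k' * y⁻¹) * (y * g * y⁻¹)⁻¹ := by
            rw [hs_eq]; group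
        _ = g * (v * k' * v⁻¹) * g⁻¹ := by rw [hygy, hyky]; group
        _ = s := by rw [hvkv, ← hs_eq]
    calc y * s = y * s * y⁻¹ * y := by group
      _ = s * y := by rw [h2]

theorem ch_Om_central (hP : ChHyp G) (P : Sylow 2 G) (y : G) (hy : y ∈ P) (s : G)
    (hs : s ∈ chOm hP P) : y * s = s * y := by
  have : Fact (Nat.Prime 2) := ⟨Nat.prime_two⟩
  obtain ⟨k, hk⟩ := orderOf_of_mem_sylow 2 P y hy
  exact ch_Om_central_aux hP k P y hy (by rw [← hk, pow_orderOf_eq_one]) s hs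

end

/-- A nonabelian finite `p`-group has a noncentral element all of whose commutators are
central. -/
theorem ch_exists_second_center {H : Type*} [Group H] [Finite H] (p : ℕ) [Fact p.Prime]
    (hH : IsPGroup p H) (hne : ¬ ∀ a b : H, a * b = b * a) :
    ∃ x : H, x ∉ Subgroup.center H ∧ ∀ y : H, x * y * x⁻¹ * y⁻¹ ∈ Subgroup.center H := by
  classical
  have hnt : Nontrivial (H ⧸ Subgroup.center H) := by
    rw [← not_subsingleton_iff_nontrivial]
    intro hsub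
    apply hne
    intro a b
    have ha : (a : H ⧸ Subgroup.center H) = 1 := Subsingleton.elim _ _
    have ha' : a ∈ Subgroup.center H := (QuotientGroup.eq_one_iff a).mp ha
    exact ((Subgroup.mem_center_iff.mp ha') b).symm
  have hq : IsPGroup p (H ⧸ Subgroup.center H) := hH.to_quotient _
  have hcn := hq.center_nontrivial
  obtain ⟨⟨xb, hxb⟩, hne1⟩ := exists_ne (1 : Subgroup.center (H ⧸ Subgroup.center H))
  obtain ⟨x, rfl⟩ := QuotientGroup.mk_surjective xb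
  refine ⟨x, ?_, ?_⟩
  · intro hx
    apply hne1
    apply Subtype.ext
    exact (QuotientGroup.eq_one_iff x).mpr hx
  · intro y
    rw [← QuotientGroup.eq_one_iff]
    rw [Subgroup.mem_center_iff] at hxb
    have h1 := hxb (y : H ⧸ Subgroup.center H)
    rw [QuotientGroup.mk_mul, QuotientGroup.mk_mul, QuotientGroup.mk_mul, QuotientGroup.mk_inv,
      QuotientGroup.mk_inv, ← h1, mul_inv_cancel_right, mul_inv_cancel]

section

variable {G : Type*} [Group G] [Finite G]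

/-- **Camina–Herzog**: if every `2`-element centralizes a Sylow `2`-subgroup then the Sylow
`2`-subgroups are abelian. -/
theorem ch_sylow_comm (hP : ChHyp G) (P : Sylow 2 G) :
    ∀ a ∈ P, ∀ b ∈ P, a * b = b * a := by
  have : Fact (Nat.Prime 2) := ⟨Nat.prime_two⟩
  by_contra hcon
  have hne : ¬ ∀ a b : (P : Subgroup G), a * b = b * a := by
    intro h
    apply hcon
    intro a ha b hb
    have := h ⟨a, ha⟩ ⟨b, hb⟩
    exact congrArg Subtype.val this
  obtain ⟨x, hxZ, hx⟩ := ch_exists_second_center 2 P.2 hne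
  rw [Subgroup.mem_center_iff] at hxZ
  push Not at hxZ
  obtain ⟨y, hyx⟩ := hxZ
  obtain ⟨z, hzdef⟩ : ∃ z : G, z = (y : G) * (x : G) * (y : G)⁻¹ * (x : G)⁻¹ := ⟨_, rfl⟩
  have hzP : z ∈ P := by
    rw [hzdef]; exact mul_mem (mul_mem (mul_mem y.2 x.2) (inv_mem y.2)) (inv_mem x.2)
  have hz : ∀ t ∈ P, t * z = z * t := by
    intro t ht
    have h1 := hx y
    rw [Subgroup.mem_center_iff] at h1
    have h2 := h1 ⟨t, ht⟩
    have h3 := congrArg Subtype.val h2
    simp only [Subgroup.coe_mul, Subgroup.coe_inv] at h3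
    -- h3 : t * (x * y * x⁻¹ * y⁻¹) = (x * y * x⁻¹ * y⁻¹) * t
    have e : z = ((x : G) * (y : G) * (x : G)⁻¹ * (y : G)⁻¹)⁻¹ := by rw [hzdef]; group
    rw [e]
    exact ((show Commute t _ from h3).inv_right).eq
  have hz1 : z ≠ 1 := by
    intro h
    apply hyx
    apply Subtype.ext
    simp only [Subgroup.coe_mul]
    rw [h] at hzdef
    calc (y : G) * (x : G) = ((y : G) * (x : G) * (y : G)⁻¹ * (x : G)⁻¹) * (x : G) * (y : G) := by
          group
      _ = (x : G) * (y : G) := by rw [← hzdef, one_mul]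
  obtain ⟨j, hj⟩ := orderOf_of_mem_sylow 2 P z hzP
  have hj0 : j ≠ 0 := by
    rintro rfl
    rw [pow_zero, orderOf_eq_one_iff] at hj
    exact hz1 hj
  obtain ⟨j', rfl⟩ := Nat.exists_eq_succ_of_ne_zero hj0
  obtain ⟨c, hcdef⟩ : ∃ c : G, c = z ^ (2 ^ j') := ⟨_, rfl⟩
  have hcc : c * c = 1 := by
    rw [hcdef, ← pow_add, ← two_mul, ← pow_succ', ← hj, pow_orderOf_eq_one]
  have hc1 : c ≠ 1 := by
    intro h
    rw [hcdef] at h
    have := orderOf_dvd_of_pow_eq_one h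
    rw [hj] at this
    have := Nat.le_of_dvd (by positivity) this
    rw [pow_succ] at this
    have : 0 < 2 ^ j' := by positivity
    omega
  have hcP : c ∈ P := by rw [hcdef]; exact pow_mem hzP _
  have hc : ∀ t ∈ P, t * c = c * t := by
    intro t ht
    rw [hcdef]
    exact ((show Commute t z from hz t ht).pow_right _).eq
  have hpow : ∀ m : ℕ, (y : G) ^ m * (x : G) * ((y : G) ^ m)⁻¹ = z ^ m * (x : G) := by
    intro m
    induction m with
    | zero => simp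
    | succ m ihm =>
      have hyz : (y : G) * z ^ m = z ^ m * (y : G) :=
        ((show Commute (y : G) z from hz _ y.2).pow_right _).eq
      calc (y : G) ^ (m + 1) * (x : G) * ((y : G) ^ (m + 1))⁻¹
          = (y : G) * ((y : G) ^ m * (x : G) * ((y : G) ^ m)⁻¹) * (y : G)⁻¹ := by
            rw [pow_succ']; group
        _ = (y : G) * z ^ m * (x : G) * (y : G)⁻¹ := by rw [ihm]; group
        _ = z ^ m * ((y : G) * (x : G) * (y : G)⁻¹ * (x : G)⁻¹) * (x : G) := by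
            rw [hyz]; group
        _ = z ^ (m + 1) * (x : G) := by rw [← hzdef, pow_succ]
  obtain ⟨y', hy'def⟩ : ∃ y' : G, y' = (y : G) ^ (2 ^ j') := ⟨_, rfl⟩
  have hy'P : y' ∈ P := by rw [hy'def]; exact pow_mem y.2 _
  have hy'x : y' * (x : G) * y'⁻¹ = (x : G) * c := by
    rw [hy'def, hpow, ← hcdef, hc _ x.2]
  have hzpc : IsPGroup 2 (Subgroup.zpowers c) :=
    P.2.to_le (by rw [Subgroup.zpowers_le]; exact hcP)
  obtain ⟨Q, hQx, hcQ⟩ := ch_sylow_cent hP (x : G) (orderOf_of_mem_sylow 2 P _ x.2)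
    (Subgroup.zpowers c) hzpc (by
      intro a ha
      obtain ⟨n, rfl⟩ := Subgroup.mem_zpowers_iff.mp ha
      exact ((show Commute c (x : G) from (hc _ x.2).symm).zpow_left n).eq)
  have hcQ' : c ∈ Q := hcQ (Subgroup.mem_zpowers c)
  have hQc : ∀ q ∈ Q, q * c = c * q :=
    fun q hq => ch_Om_central hP Q q hq c ⟨hcQ', hcc⟩
  exact hc1 (ch_star Q (x : G) c y' hcc hQx hQc (hc y' hy'P) hy'x
    (orderOf_of_mem_sylow 2 P y' hy'P))

end

end Cfsg.Agent.Lib.Helper77
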