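import Cfsg.Agent.Lib.Helper22.BlockOrth
import Cfsg.Agent.Lib.Helper79.Blk2
import Cfsg.Agent.Lib.Helper4.Burnside
import Cfsg.Agent.S4354

set_option autoImplicit false

/-!
Kazarin's theorem: an element whose conjugacy class has prime power size generates a solvable
normal subgroup.  (Route of helper72: principal `r`-block + block orthogonality + Burnside.)
-/

namespace Cfsg.Agent.Lib.Helper77

open Cfsg Cfsg.Agent.Lib.Helper4 Cfsg.Agent.Lib.Helper22 Cfsg.Agent.Lib.Helper21 Module Representation
open scoped ComplexConjugate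

universe u

theorem kz_exists_isPModular (r : ℕ) (hr : r.Prime) : ∃ M : Ideal AlgInt, IsPModular r M := by
  have hne : Ideal.span {(r : AlgInt)} ≠ ⊤ := by
    intro h
    rw [Ideal.eq_top_iff_one, Ideal.mem_span_singleton'] at h
    obtain ⟨a, ha⟩ := h
    have h1 : (a : ℂ) * (r : ℂ) = 1 := by
      have := congrArg (fun x : AlgInt => (x : ℂ)) ha
      simpa using this
    have hp0 : (r : ℂ) ≠ 0 := by exact_mod_cast hr.ne_zero
    have h2 : (a : ℂ) = ((1 : ℕ) : ℂ) / (r : ℂ) := by
      rw [eq_div_iff hp0, h1]; simp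
    have h3 : IsIntegral ℤ (((1 : ℕ) : ℂ) / (r : ℂ)) := h2 ▸ a.2
    have := dvd_of_isIntegral_div 1 r hr.ne_zero h3
    exact hr.one_lt.ne' (Nat.dvd_one.mp this)
  obtain ⟨M, hM, hle⟩ := Ideal.exists_le_maximal _ hne
  exact ⟨M, hr, hM, hle (Ideal.mem_span_singleton_self _)⟩

/-- The local step: a nontrivial irreducible character in the principal `r`-block of degree prime
to `p` has `x` in its kernel. -/
theorem kz_local {G : Type u} [Group G] [Fintype G] [DecidableEq G] (x : G) (p a r : ℕ)
    (hp : p.Prime) (hr : r.Prime)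
    (hrp : r ≠ p) (hx : (Subgroup.centralizer ({x} : Set G)).index = p ^ a)
    (hrx : ¬ r ∣ orderOf x) (M : Ideal AlgInt) (hM : IsPModular r M)
    (χ : IrrCharacter G) (hχB : χ ∈ principalBlock M G) (hχ1 : χ ≠ trivIrr)
    (n : ℕ) (ρ : Representation ℂ G (Fin n → ℂ)) (hρ : ρ.IsIrreducible)
    (hχ : ρ.character = (χ : G → ℂ)) (hpn : ¬ p ∣ n) :
    ∃ N : Subgroup G, N.Normal ∧ N ≠ ⊤ ∧ x ∈ N := by
  have := hρ
  have hd : finrank ℂ (Fin n → ℂ) = n := by simp
  have hnpos : 0 < n := by
    have := finrank_pos_of_irreducible ρ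
    rwa [hd] at this
  have hn0 : (n : ℂ) ≠ 0 := by exact_mod_cast hnpos.ne'
  have hχone : (χ : G → ℂ) 1 = (n : ℂ) := by rw [← hχ, Representation.char_one, hd]
  have hcop : Nat.Coprime (finrank ℂ (Fin n → ℂ))
      (Finset.univ.filter (fun z : G => IsConj z x)).card := by
    rw [hd, card_conj_class, hx]
    exact Nat.Coprime.pow_right a ((Nat.Prime.coprime_iff_not_dvd hp).mpr hpn).symm
  have hblock : MemLocalIdeal M (centralChar (fun _ : G => (1 : ℂ)) x -
      centralChar (χ : G → ℂ) x) := hχB x
  have hpa : ¬ MemLocalIdeal M ((p ^ a : ℕ) : ℂ) := by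
    rw [locIdeal_natCast_iff hM]
    intro h
    exact hrp ((Nat.prime_dvd_prime_iff_eq hr hp).mp (hr.dvd_of_dvd_pow h))
  rw [centralChar, centralChar, hx, hχone] at hblock
  rcases char_eq_zero_or_norm_eq ρ x hcop with h0 | hnorm
  · exfalso
    apply hpa
    rw [hχ] at h0
    rw [h0] at hblock
    simpa using hblock
  · obtain ⟨ω, hω⟩ := (norm_char_eq_iff ρ x).mp hnorm
    have htr : (χ : G → ℂ) x = ω * (n : ℂ) := by
      rw [← hχ, Representation.character, hω]; simp
    have hωN : ω ^ orderOf x = 1 := by
      have h1 : (ρ x) ^ orderOf x = 1 := by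
        rw [← map_pow, pow_orderOf_eq_one, map_one]
      rw [hω, smul_pow] at h1
      have h2 := congrArg (LinearMap.trace ℂ (Fin n → ℂ)) h1
      have h3 : (LinearMap.id : (Fin n → ℂ) →ₗ[ℂ] (Fin n → ℂ)) ^ orderOf x = 1 := by
        rw [← Module.End.one_eq_id, one_pow]
      rw [h3, map_smul, LinearMap.trace_one, hd, smul_eq_mul] at h2
      exact mul_right_cancel₀ hn0 (h2.trans (one_mul _).symm)
    have hωint : IsIntegral ℤ ω :=
      IsIntegral.of_pow (orderOf_pos x) (by rw [hωN]; exact isIntegral_one)
    have hblock2 : MemLocalIdeal M (((p ^ a : ℕ) : ℂ) * (1 - ω)) := by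
      have e : ((p ^ a : ℕ) : ℂ) * (1 - ω) =
          ((p ^ a : ℕ) : ℂ) * 1 / 1 - ((p ^ a : ℕ) : ℂ) * (χ : G → ℂ) x / (n : ℂ) := by
        rw [htr]; field_simp
      rw [e]; exact hblock
    have h1ω : MemLocalIdeal M (1 - ω) := by
      rcases locIdeal_of_mul hM (locRing_natCast hM _)
        (locRing_sub hM (locRing_one hM) (locRing_of_isIntegral hM hωint)) hblock2
        with h | h
      · exact absurd h hpa
      · exact h
    have hω1 : ω = 1 := by
      by_contra hne
      apply hrx
      rw [← locIdeal_natCast_iff hM]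
      have hS : ∑ i ∈ Finset.range (orderOf x), ω ^ i = 0 := by
        have h := mul_geom_sum ω (orderOf x)
        rw [hωN, sub_self] at h
        rcases mul_eq_zero.mp h with h | h
        · exact absurd (sub_eq_zero.mp h) hne
        · exact h
      have hN : ((orderOf x : ℕ) : ℂ) = ∑ i ∈ Finset.range (orderOf x), (1 - ω ^ i) := by
        rw [Finset.sum_sub_distrib, hS]; simp
      rw [hN]
      apply locIdeal_sum hM
      intro i _
      rw [← mul_neg_geom_sum ω i]
      exact locIdeal_mul_right hM h1ω (locRing_of_isIntegral hM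
        (IsIntegral.sum _ fun j _ => hωint.pow j))
    refine ⟨ρ.asGroupHom.ker, MonoidHom.normal_ker _, ?_, ?_⟩
    · intro hker
      apply hχ1
      have htriv : ∀ z, ρ z = 1 := fun z => by
        have hz : z ∈ ρ.asGroupHom.ker := hker ▸ Subgroup.mem_top z
        have := MonoidHom.mem_ker.mp hz
        rw [← asGroupHom_apply, this]
        rfl
      have hχn : ∀ z, (χ : G → ℂ) z = (n : ℂ) := fun z => by
        rw [← hχ, Representation.character, htriv]
        simp
      have h1 := classInner_irr χ χ
      rw [if_pos rfl, classInner] at h1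
      simp only [hχn, map_natCast, Finset.sum_const, Finset.card_univ, nsmul_eq_mul] at h1
      have hN : (Nat.card G : ℂ) ≠ 0 := card_ne_zero_complex
      rw [← Nat.card_eq_fintype_card, ← mul_assoc, inv_mul_cancel₀ hN, one_mul] at h1
      have hn1 : n = 1 := by
        have : n * n = 1 := by exact_mod_cast h1
        exact Nat.eq_one_of_mul_eq_one_left this
      apply Subtype.ext
      funext z
      rw [hχn, hn1]
      simp [trivIrr]
    · rw [MonoidHom.mem_ker]
      apply Units.ext
      rw [asGroupHom_apply, hω, hω1, one_smul]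
      rfl

/-- **Lemma K**: an element with class size a power of `p` lies in a proper normal subgroup, as
soon as some prime `r ≠ p` divides the group order but not the order of the element. -/
theorem kz_lemmaK {G : Type u} [Group G] [Finite G] (x : G) (p a r : ℕ) (hp : p.Prime)
    (hr : r.Prime) (hrp : r ≠ p) (hx : (Subgroup.centralizer ({x} : Set G)).index = p ^ a)
    (hrG : r ∣ Nat.card G) (hrx : ¬ r ∣ orderOf x) :
    ∃ N : Subgroup G, N.Normal ∧ N ≠ ⊤ ∧ x ∈ N := by
  classical
  cases nonempty_fintype G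
  have := irr_finite (G := G)
  let _ : Fintype (IrrCharacter G) := Fintype.ofFinite _
  obtain ⟨M, hM⟩ := kz_exists_isPModular r hr
  have : Fact r.Prime := ⟨hr⟩
  obtain ⟨y, hy⟩ := exists_prime_orderOf_dvd_card' r hrG
  have hy1 : y ≠ 1 := by
    rintro rfl
    rw [orderOf_one] at hy
    exact hr.one_lt.ne hy
  have hr1 : ¬ r ∣ orderOf (1 : G) := by
    rw [orderOf_one]; exact fun h => hr.one_lt.ne' (Nat.dvd_one.mp h)
  have horth := block_orth_sections hM (principalBlock M G)
    Cfsg.Agent.Lib.Helper79.isPBlock_principalBlock (g := y) (h := 1) (x := y) (y := 1)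
    ⟨1, mul_one y, Commute.one_right y, ⟨1, by rw [hy, pow_one]⟩, hr1⟩
    ⟨1, mul_one 1, Commute.one_right 1, ⟨0, by rw [orderOf_one, pow_zero]⟩, hr1⟩
    (by rw [isConj_one_left]; exact hy1)
  by_contra hN
  have key : ∀ χ : IrrCharacter G, χ ∈ principalBlock M G → χ ≠ trivIrr →
      ∃ c : ℂ, IsIntegral ℤ c ∧ (χ : G → ℂ) y * conj ((χ : G → ℂ) 1) = (p : ℂ) * c := by
    intro χ hχB hχ1
    obtain ⟨n, ρ, hρ, hχ⟩ := χ.2
    by_cases hpn : p ∣ n
    · obtain ⟨m, rfl⟩ := hpn
      have hχone : (χ : G → ℂ) 1 = ((p * m : ℕ) : ℂ) := by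
        rw [← hχ, Representation.char_one]; simp
      refine ⟨(χ : G → ℂ) y * (m : ℂ),
        IsIntegral.mul (irr_isIntegral χ y) isIntegral_algebraMap, ?_⟩
      rw [hχone]
      simp only [map_natCast]
      push_cast
      ring
    · exact absurd (kz_local x p a r hp hr hrp hx hrx M hM χ hχB hχ1 n ρ hρ hχ hpn) hN
  rw [Cfsg.Agent.Lib.Helper79.finsum_mem_eq_sum_filter_univ] at horth
  have htriv_mem : (trivIrr : IrrCharacter G) ∈
      Finset.univ.filter (fun χ : IrrCharacter G => χ ∈ principalBlock M G) := by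
    rw [Finset.mem_filter]
    exact ⟨Finset.mem_univ _, Cfsg.Agent.Lib.Helper79.trivIrr_mem_principalBlock hM⟩
  rw [← Finset.add_sum_erase _ _ htriv_mem] at horth
  choose! c hc using key
  have h2 : ∑ χ ∈ (Finset.univ.filter (fun χ : IrrCharacter G => χ ∈ principalBlock M G)).erase
        trivIrr, (χ : G → ℂ) y * conj ((χ : G → ℂ) 1) =
      (p : ℂ) * ∑ χ ∈ (Finset.univ.filter
        (fun χ : IrrCharacter G => χ ∈ principalBlock M G)).erase trivIrr, c χ := by
    rw [Finset.mul_sum]
    refine Finset.sum_congr rfl fun χ hχ => ?_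
    exact (hc χ (Finset.mem_filter.mp (Finset.mem_of_mem_erase hχ)).2
      (Finset.ne_of_mem_erase hχ)).2
  rw [h2] at horth
  simp only [trivIrr_apply, map_one, mul_one] at horth
  have hA : IsIntegral ℤ (∑ χ ∈ (Finset.univ.filter
      (fun χ : IrrCharacter G => χ ∈ principalBlock M G)).erase trivIrr, c χ) :=
    IsIntegral.sum _ fun χ hχ => (hc χ (Finset.mem_filter.mp (Finset.mem_of_mem_erase hχ)).2
      (Finset.ne_of_mem_erase hχ)).1
  have hpne : (p : ℂ) ≠ 0 := by exact_mod_cast hp.ne_zero
  have h3 : ((1 : ℕ) : ℂ) / (p : ℂ) = -(∑ χ ∈ (Finset.univ.filter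
      (fun χ : IrrCharacter G => χ ∈ principalBlock M G)).erase trivIrr, c χ) := by
    field_simp
    push_cast
    linear_combination horth
  have h4 : IsIntegral ℤ (((1 : ℕ) : ℂ) / (p : ℂ)) := by
    rw [h3]; exact hA.neg
  exact hp.one_lt.ne' (Nat.dvd_one.mp (dvd_of_isIntegral_div 1 p hp.ne_zero h4))

theorem kz_solvable_of_le {G : Type*} [Group G] {H K : Subgroup G} (h : H ≤ K)
    (hK : Group.IsSolvable K) : Group.IsSolvable H :=
  haveI := hK
  Group.isSolvable_of_isSolvable_injective (Subgroup.inclusion_injective h)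

/-- The join of two solvable subgroups, one of them normal, is solvable. -/
theorem kz_solvable_sup {G : Type*} [Group G] (N E : Subgroup G) [N.Normal]
    (hN : Group.IsSolvable N) (hE : Group.IsSolvable E) : Group.IsSolvable (N ⊔ E : Subgroup G) := by
  have hq : Group.IsSolvable ((N ⊔ E : Subgroup G) ⧸ N.subgroupOf (N ⊔ E)) := by
    let f : E →* (N ⊔ E : Subgroup G) ⧸ N.subgroupOf (N ⊔ E) :=
      (QuotientGroup.mk' _).comp (Subgroup.inclusion le_sup_right)
    have hf : Function.Surjective f := by
      intro q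
      obtain ⟨x, rfl⟩ := QuotientGroup.mk_surjective q
      obtain ⟨n, hn, e, he, hx⟩ : ∃ n ∈ N, ∃ e ∈ E, n * e = (x : G) := by
        have h1 : (x : G) ∈ ((N ⊔ E : Subgroup G) : Set G) := x.2
        rw [Subgroup.normal_mul] at h1
        exact Set.mem_mul.mp h1
      refine ⟨⟨e, he⟩, ?_⟩
      show QuotientGroup.mk _ = QuotientGroup.mk x
      rw [QuotientGroup.eq, Subgroup.mem_subgroupOf]
      show e⁻¹ * (x : G) ∈ N
      rw [← hx]
      have h2 : e⁻¹ * (n * e) = e⁻¹ * n * e⁻¹⁻¹ := by group
      rw [h2]
      exact Subgroup.Normal.conj_mem inferInstance n hn e⁻¹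
    have := hE
    exact Group.isSolvable_of_surjective hf
  have hs : Group.IsSolvable (N.subgroupOf (N ⊔ E)) := by
    have := hN
    exact Group.isSolvable_of_isSolvable_injective
      (f := (Subgroup.subgroupOfEquivOfLe (le_sup_left : N ≤ N ⊔ E)).toMonoidHom)
      (Subgroup.subgroupOfEquivOfLe (le_sup_left : N ≤ N ⊔ E)).injective
  exact (Group.isSolvable_iff_subgroup_quotient (N.subgroupOf (N ⊔ E))).mpr ⟨hs, hq⟩

/-- A finite group has a largest solvable normal subgroup. -/
theorem kz_exists_radical (H : Type*) [Group H] [Finite H] :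
    ∃ R : Subgroup H, R.Normal ∧ Group.IsSolvable R ∧
      ∀ T : Subgroup H, T.Normal → Group.IsSolvable T → T ≤ R := by
  classical
  have hfin : {T : Subgroup H | T.Normal ∧ Group.IsSolvable T}.Finite := Set.toFinite _
  have hne : {T : Subgroup H | T.Normal ∧ Group.IsSolvable T}.Nonempty :=
    ⟨⊥, Subgroup.normal_bot, inferInstance⟩
  obtain ⟨R, ⟨hRn, hRs⟩, hmax⟩ := Set.exists_max_image _ (fun T : Subgroup H => Nat.card T)
    hfin hne
  refine ⟨R, hRn, hRs, fun T hTn hTs => ?_⟩
  have h1 : Group.IsSolvable (R ⊔ T : Subgroup H) := kz_solvable_sup R T hRs hTs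
  have h2 : (R ⊔ T : Subgroup H).Normal := Subgroup.sup_normal R T
  have h3 := hmax (R ⊔ T) ⟨h2, h1⟩
  have h4 : R = R ⊔ T := Subgroup.eq_of_le_of_card_ge le_sup_left h3
  rw [h4]; exact le_sup_right

theorem kz_index_conj {G : Type*} [Group G] (x g : G) :
    (Subgroup.centralizer ({g * x * g⁻¹} : Set G)).index =
      (Subgroup.centralizer ({x} : Set G)).index := by
  have h : Subgroup.centralizer ({g * x * g⁻¹} : Set G) =
      (Subgroup.centralizer ({x} : Set G)).map ((MulAut.conj g : G ≃* G) : G →* G) := by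
    ext z
    rw [Subgroup.mem_map, Subgroup.mem_centralizer_iff]
    constructor
    · intro hz
      refine ⟨g⁻¹ * z * g, ?_, ?_⟩
      · rw [Subgroup.mem_centralizer_iff]
        intro c hc
        rw [Set.mem_singleton_iff.mp hc]
        have := hz _ rfl
        calc x * (g⁻¹ * z * g) = g⁻¹ * (g * x * g⁻¹ * z) * g := by group
          _ = g⁻¹ * (z * (g * x * g⁻¹)) * g := by rw [this]
          _ = g⁻¹ * z * g * x := by group
      · show g * (g⁻¹ * z * g) * g⁻¹ = z
        group
    · rintro ⟨w, hw, rfl⟩ c hc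
      rw [Set.mem_singleton_iff.mp hc]
      rw [Subgroup.mem_centralizer_iff] at hw
      have := hw x rfl
      show g * x * g⁻¹ * (g * w * g⁻¹) = g * w * g⁻¹ * (g * x * g⁻¹)
      calc g * x * g⁻¹ * (g * w * g⁻¹) = g * (x * w) * g⁻¹ := by group
        _ = g * (w * x) * g⁻¹ := by rw [this]
        _ = g * w * g⁻¹ * (g * x * g⁻¹) := by group
  rw [h, Subgroup.index_map_equiv]

theorem kz_index_pow {G : Type*} [Group G] (x : G) (j : ℕ) :
    (Subgroup.centralizer ({x ^ j} : Set G)).index ∣
      (Subgroup.centralizer ({x} : Set G)).index := by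
  apply Subgroup.index_dvd_of_le
  intro z hz
  rw [Subgroup.mem_centralizer_iff] at hz ⊢
  intro c hc
  rw [Set.mem_singleton_iff.mp hc]
  have : Commute x z := hz x rfl
  exact (this.pow_left j).eq

/-- The class size of an element of a normal subgroup, computed inside the subgroup, divides
its class size in the whole group. -/
theorem kz_index_subgroup {G : Type*} [Group G] [Finite G] (N : Subgroup G) [N.Normal] (y : N) :
    (Subgroup.centralizer ({y} : Set N)).index ∣
      (Subgroup.centralizer ({(y : G)} : Set G)).index := by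
  have h : Subgroup.centralizer ({y} : Set N) =
      (Subgroup.centralizer ({(y : G)} : Set G)).subgroupOf N := by
    ext z
    rw [Subgroup.mem_subgroupOf, Subgroup.mem_centralizer_iff, Subgroup.mem_centralizer_iff]
    constructor
    · intro hz c hc
      rw [Set.mem_singleton_iff.mp hc]
      have := hz y rfl
      exact congrArg Subtype.val this
    · intro hz c hc
      rw [Set.mem_singleton_iff.mp hc]
      exact Subtype.ext (hz (y : G) rfl)
  rw [h]
  show (Subgroup.centralizer ({(y : G)} : Set G)).relIndex N ∣ _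
  have h1 := Cfsg.Agent.S4354.relIndex_eq_relIndex_sup N
    (Subgroup.centralizer ({(y : G)} : Set G))
  rw [h1]
  exact Subgroup.relIndex_dvd_index_of_le le_sup_left

theorem kz_aux (p : ℕ) (hp : p.Prime) : ∀ (n : ℕ) (G : Type u) [Group G] [Finite G],
    Nat.card G = n → ∀ (m : ℕ) (x : G), orderOf x = m →
      (∃ k : ℕ, (Subgroup.centralizer ({x} : Set G)).index = p ^ k) →
      Group.IsSolvable (Subgroup.normalClosure ({x} : Set G)) := by
  intro n
  induction n using Nat.strong_induction_on with
  | _ n ih =>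
    intro G _ _ hn m
    induction m using Nat.strong_induction_on with
    | _ m ihm =>
      intro x hm hx
      obtain ⟨k, hk⟩ := hx
      have hm0 : m ≠ 0 := by rw [← hm]; exact (orderOf_pos x).ne'
      by_cases hpp : ∃ (q j : ℕ), q.Prime ∧ m = q ^ j
      · -- prime power order
        obtain ⟨q, j, hq, hmq⟩ := hpp
        by_cases hr : ∃ r : ℕ, r.Prime ∧ r ∣ Nat.card G ∧ r ≠ p ∧ r ≠ q
        · obtain ⟨r, hr, hrG, hrp, hrq⟩ := hr
          have hrx : ¬ r ∣ orderOf x := by
            rw [hm, hmq]
            intro h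
            exact hrq ((Nat.prime_dvd_prime_iff_eq hr hq).mp (hr.dvd_of_dvd_pow h))
          obtain ⟨N, hNn, hNt, hxN⟩ := kz_lemmaK x p k r hp hr hrp hk hrG hrx
          have hcard : Nat.card N < n := by
            rw [← hn]
            exact lt_of_le_of_ne (Subgroup.card_le_card_group N)
              (fun h => hNt ((Subgroup.card_eq_iff_eq_top N).mp h))
          obtain ⟨R, hRn, hRs, hRmax⟩ := kz_exists_radical N
          have hconj : ∀ g : G, g * x * g⁻¹ ∈ R.map N.subtype := by
            intro g
            have hmem : g * x * g⁻¹ ∈ N := hNn.conj_mem x hxN g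
            have hidx : ∃ k' : ℕ, (Subgroup.centralizer
                ({(⟨g * x * g⁻¹, hmem⟩ : N)} : Set N)).index = p ^ k' := by
              have h1 := kz_index_subgroup N (⟨g * x * g⁻¹, hmem⟩ : N)
              rw [kz_index_conj, hk] at h1
              obtain ⟨k', -, hk'⟩ := (Nat.dvd_prime_pow hp).mp h1
              exact ⟨k', hk'⟩
            have hsol := ih _ hcard N rfl _ (⟨g * x * g⁻¹, hmem⟩ : N) rfl hidx
            have hle := hRmax _ Subgroup.normalClosure_normal hsol
            exact ⟨⟨g * x * g⁻¹, hmem⟩,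
              hle (Subgroup.subset_normalClosure (Set.mem_singleton _)), rfl⟩
          have hK : Subgroup.normalClosure ({x} : Set G) ≤ R.map N.subtype := by
            rw [Subgroup.normalClosure, Subgroup.closure_le]
            intro z hz
            rw [Group.mem_conjugatesOfSet_iff] at hz
            obtain ⟨a, ha, haz⟩ := hz
            rw [Set.mem_singleton_iff.mp ha, isConj_iff] at haz
            obtain ⟨c, rfl⟩ := haz
            exact hconj c
          have hRmap : Group.IsSolvable (R.map N.subtype) := by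
            have := hRs
            exact Group.isSolvable_of_surjective
              (f := (N.subtype.subgroupMap R)) (MonoidHom.subgroupMap_surjective _ _)
          exact kz_solvable_of_le hK hRmap
        · -- order of G is p^a q^b
          push Not at hr
          have hn0 : Nat.card G ≠ 0 := Nat.card_pos.ne'
          have hcompl : ordCompl[p] (Nat.card G) ≠ 0 :=
            (Nat.ordCompl_pos p hn0).ne'
          have h2 := Nat.eq_prime_pow_of_unique_prime_dvd (p := q) hcompl (by
            intro d hd hdvd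
            have hdG : d ∣ Nat.card G := hdvd.trans (Nat.ordCompl_dvd _ p)
            by_contra hdq
            have hdp : d = p := by
              by_contra hdp
              exact hdq (hr d hd hdG hdp)
            rw [hdp] at hdvd
            exact Nat.not_dvd_ordCompl hp hn0 hdvd)
          have hG : Group.IsSolvable G := by
            apply burnside p q ((Nat.card G).factorization p) _ hp hq
            rw [← h2, Nat.ordProj_mul_ordCompl_eq_self]
          exact kz_solvable_of_le le_top
            (Group.isSolvable_of_isSolvable_injective (f := (⊤ : Subgroup G).subtype)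
              (Subgroup.subtype_injective _))
      · -- composite order: split
        push Not at hpp
        have hm1 : m ≠ 1 := by
          intro h
          exact hpp 2 0 Nat.prime_two (by rw [h, pow_zero])
        obtain ⟨q, hq, hqm⟩ := Nat.exists_prime_and_dvd hm1
        obtain ⟨m₁, hm₁⟩ : ∃ m₁, m₁ = ordProj[q] m := ⟨_, rfl⟩
        obtain ⟨m₂, hm₂⟩ : ∃ m₂, m₂ = ordCompl[q] m := ⟨_, rfl⟩
        have hmul : m₁ * m₂ = m := by rw [hm₁, hm₂, Nat.ordProj_mul_ordCompl_eq_self]
        have hm₂1 : m₂ ≠ 1 := by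
          intro h
          rw [h, mul_one] at hmul
          exact hpp q _ hq (by rw [← hmul, hm₁])
        have hm₁1 : m₁ ≠ 1 := by
          intro h
          rw [hm₁] at h
          have := Nat.ordProj_dvd m q
          have h3 : q ∣ ordProj[q] m := by
            have hpos : 0 < m.factorization q := hq.factorization_pos_of_dvd hm0 hqm
            exact dvd_pow_self q hpos.ne'
          rw [h] at h3
          exact hq.one_lt.ne' (Nat.dvd_one.mp h3)
        have hm₁0 : m₁ ≠ 0 := by rintro rfl; rw [zero_mul] at hmul; exact hm0 hmul.symm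
        have hm₂0 : m₂ ≠ 0 := by rintro rfl; rw [mul_zero] at hmul; exact hm0 hmul.symm
        have hcop : Nat.Coprime m₁ m₂ := by
          rw [hm₁, hm₂]
          exact Nat.Coprime.pow_left _ (Nat.coprime_ordCompl hq hm0)
        have ho1 : orderOf (x ^ m₁) = m₂ := by
          rw [orderOf_pow_of_dvd hm₁0 (by rw [hm, ← hmul]; exact dvd_mul_right _ _), hm, ← hmul,
            Nat.mul_div_cancel_left _ (Nat.pos_of_ne_zero hm₁0)]
        have ho2 : orderOf (x ^ m₂) = m₁ := by
          rw [orderOf_pow_of_dvd hm₂0 (by rw [hm, ← hmul]; exact dvd_mul_left _ _), hm, ← hmul,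
            Nat.mul_div_cancel _ (Nat.pos_of_ne_zero hm₂0)]
        have hlt1 : m₂ < m := by
          rw [← hmul]
          have : 2 ≤ m₁ := by omega
          nlinarith [Nat.pos_of_ne_zero hm₂0]
        have hlt2 : m₁ < m := by
          rw [← hmul]
          have : 2 ≤ m₂ := by omega
          nlinarith [Nat.pos_of_ne_zero hm₁0]
        have hidx : ∀ j : ℕ, ∃ k' : ℕ, (Subgroup.centralizer ({x ^ j} : Set G)).index = p ^ k' := by
          intro j
          have h1 := kz_index_pow x j
          rw [hk] at h1
          obtain ⟨k', -, hk'⟩ := (Nat.dvd_prime_pow hp).mp h1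
          exact ⟨k', hk'⟩
        have hs1 := ihm m₂ hlt1 (x ^ m₁) ho1 (hidx m₁)
        have hs2 := ihm m₁ hlt2 (x ^ m₂) ho2 (hidx m₂)
        have hsup := kz_solvable_sup _ _ hs1 hs2
        have hxmem : x ∈ Subgroup.normalClosure ({x ^ m₁} : Set G) ⊔
            Subgroup.normalClosure ({x ^ m₂} : Set G) := by
          have hco : IsCoprime (m₁ : ℤ) (m₂ : ℤ) := Nat.isCoprime_iff_coprime.mpr hcop
          obtain ⟨u, v, huv⟩ := hco
          have hx1 : x = (x ^ m₁) ^ u * (x ^ m₂) ^ v := by
            rw [← zpow_natCast x m₁, ← zpow_natCast x m₂, ← zpow_mul, ← zpow_mul, ← zpow_add,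
              mul_comm (m₁ : ℤ), mul_comm (m₂ : ℤ), huv, zpow_one]
          have h5 : (x ^ m₁) ^ u * (x ^ m₂) ^ v ∈ Subgroup.normalClosure ({x ^ m₁} : Set G) ⊔
              Subgroup.normalClosure ({x ^ m₂} : Set G) :=
            Subgroup.mul_mem_sup
              (Subgroup.zpow_mem _ (Subgroup.subset_normalClosure (Set.mem_singleton _)) u)
              (Subgroup.zpow_mem _ (Subgroup.subset_normalClosure (Set.mem_singleton _)) v)
          rw [← hx1] at h5
          exact h5
        have hle : Subgroup.normalClosure ({x} : Set G) ≤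
            Subgroup.normalClosure ({x ^ m₁} : Set G) ⊔
              Subgroup.normalClosure ({x ^ m₂} : Set G) :=
          Subgroup.normalClosure_le_normal (Set.singleton_subset_iff.mpr hxmem)
        exact kz_solvable_of_le hle hsup

/-- **Kazarin's theorem**: if the conjugacy class of `x` has prime power size then the normal
closure of `x` is solvable. -/
theorem kazarin_index {G : Type u} [Group G] [Finite G] (x : G) {p : ℕ} (hp : p.Prime) (k : ℕ)
    (hx : (Subgroup.centralizer ({x} : Set G)).index = p ^ k) :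
    Group.IsSolvable (Subgroup.normalClosure ({x} : Set G)) :=
  kz_aux p hp _ G rfl _ x rfl ⟨k, hx⟩

/-- Kazarin's theorem, with the class size as the cardinality of the conjugacy class. -/
theorem kazarin_ncard {G : Type u} [Group G] [Finite G] (x : G) {p : ℕ} (hp : p.Prime) (k : ℕ)
    (hx : (ConjClasses.mk x).carrier.ncard = p ^ k) :
    Group.IsSolvable (Subgroup.normalClosure ({x} : Set G)) := by
  classical
  cases nonempty_fintype G
  apply kazarin_index x hp k
  rw [← hx, ← card_conj_class]
  have h : (ConjClasses.mk x).carrier =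
      ((Finset.univ.filter (fun z : G => IsConj z x) : Finset G) : Set G) := by
    ext z
    rw [ConjClasses.mem_carrier_iff_mk_eq, ConjClasses.mk_eq_mk_iff_isConj]
    simp
  rw [h, Set.ncard_coe_finset]

end Cfsg.Agent.Lib.Helper77
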