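import Mathlib

set_option autoImplicit false

/-!
Norm / Engel identity: on a commutative group of exponent `p` with an endomorphism `σ`,
`(σ - 1)^(p-1) = 1 + σ + ... + σ^(p-1)`.
-/

namespace Cfsg.Agent.Lib.Helper77

open Polynomial in
theorem sub_one_pow_eq_geom (p : ℕ) [Fact p.Prime] :
    ((X : (ZMod p)[X]) - 1) ^ (p - 1) = ∑ i ∈ Finset.range p, X ^ i := by
  have hp : p.Prime := Fact.out
  have h1 : ((X : (ZMod p)[X]) - 1) ^ (p - 1) * (X - 1) =
      (∑ i ∈ Finset.range p, X ^ i) * (X - 1) := by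
    rw [← pow_succ, Nat.sub_add_cancel hp.one_le, sub_pow_char, one_pow, geom_sum_mul]
  have h2 : ((X : (ZMod p)[X]) - 1) ≠ 0 := by
    have := X_sub_C_ne_zero (1 : ZMod p)
    simpa using this
  exact mul_right_cancel₀ h2 h1

theorem engel_module {p : ℕ} [Fact p.Prime] {M : Type*} [AddCommGroup M] [Module (ZMod p) M]
    (s : M →ₗ[ZMod p] M) (a : M) :
    (fun c => s c - c)^[p - 1] a = ∑ i ∈ Finset.range p, s^[i] a := by
  have h := congrArg (fun q => (Polynomial.aeval s q) a) (sub_one_pow_eq_geom p)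
  simp only [map_pow, map_sub, Polynomial.aeval_X, map_one, map_sum] at h
  rw [Module.End.pow_apply, LinearMap.sum_apply] at h
  have h3 : (⇑(s - 1 : Module.End (ZMod p) M)) = fun c => s c - c := by
    funext c
    simp
  rw [h3] at h
  rw [h]
  apply Finset.sum_congr rfl
  intro i _
  rw [Module.End.pow_apply]

theorem engel_commGroup_aux {p : ℕ} [Fact p.Prime] {A : Type*} [CommGroup A]
    [Module (ZMod p) (Additive A)] (σ : A →* A) (a : A) :
    (fun c => c⁻¹ * σ c)^[p - 1] a = ∏ i ∈ Finset.range p, σ^[i] a := by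
  let t : Additive A →+ Additive A := MonoidHom.toAdditive σ
  have hs : ∀ c : A, t (Additive.ofMul c) = Additive.ofMul (σ c) := fun c => rfl
  have h := engel_module (t.toZModLinearMap p) (Additive.ofMul a)
  simp only [AddMonoidHom.coe_toZModLinearMap] at h
  have h1 : ∀ n : ℕ, (fun c => t c - c)^[n] (Additive.ofMul a) =
      Additive.ofMul ((fun c => c⁻¹ * σ c)^[n] a) := by
    intro n
    induction n with
    | zero => rfl
    | succ n ih =>
      rw [Function.iterate_succ_apply', Function.iterate_succ_apply', ih, hs]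
      rw [← ofMul_div, div_eq_mul_inv, mul_comm]
  have h2 : ∀ n : ℕ, t^[n] (Additive.ofMul a) = Additive.ofMul (σ^[n] a) := by
    intro n
    induction n with
    | zero => rfl
    | succ n ih =>
      rw [Function.iterate_succ_apply', Function.iterate_succ_apply', ih, hs]
  rw [h1] at h
  have h3 : ∑ i ∈ Finset.range p, t^[i] (Additive.ofMul a) =
      Additive.ofMul (∏ i ∈ Finset.range p, σ^[i] a) := by
    rw [ofMul_prod]
    exact Finset.sum_congr rfl (fun i _ => h2 i)
  rw [h3] at h
  exact Additive.ofMul.injective h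

theorem engel_commGroup {p : ℕ} [Fact p.Prime] {A : Type*} [CommGroup A]
    (hA : ∀ a : A, a ^ p = 1) (σ : A →* A) (a : A) :
    (fun c => c⁻¹ * σ c)^[p - 1] a = ∏ i ∈ Finset.range p, σ^[i] a := by
  letI : Module (ZMod p) (Additive A) := AddCommGroup.zmodModule (n := p) (fun x => by
    have := hA x.toMul
    exact congrArg Additive.ofMul this)
  exact engel_commGroup_aux σ a

/-- Subgroup form: `A ≤ B` commutative of exponent `p`, normalised by `z`; for `a ∈ A` the
iterated commutator `[a, z; p-1]` is the product of the conjugates `z⁻ⁱ a zⁱ`, `i < p`. -/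
theorem engel_subgroup {p : ℕ} [Fact p.Prime] {B : Type*} [Group B] (A : Subgroup B)
    (hc : ∀ a ∈ A, ∀ b ∈ A, a * b = b * a) (he : ∀ a ∈ A, a ^ p = 1) (z : B)
    (hz : ∀ a ∈ A, z⁻¹ * a * z ∈ A) (a : B) (ha : a ∈ A) :
    (fun y : B => y⁻¹ * z⁻¹ * y * z)^[p - 1] a =
      ((List.range p).map (fun i => (z ^ i)⁻¹ * a * z ^ i)).prod := by
  letI : CommGroup ↥A :=
    { (inferInstance : Group ↥A) with
      mul_comm := fun x y => Subtype.ext (hc x x.2 y y.2) }
  let σ : ↥A →* ↥A := MonoidHom.mk' (fun x => ⟨z⁻¹ * (x : B) * z, hz x x.2⟩) (by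
    intro x y
    apply Subtype.ext
    show z⁻¹ * ((x : B) * (y : B)) * z = (z⁻¹ * (x : B) * z) * (z⁻¹ * (y : B) * z)
    group)
  have hσ : ∀ x : ↥A, ((σ x : ↥A) : B) = z⁻¹ * (x : B) * z := fun x => rfl
  have h := engel_commGroup (p := p) (A := ↥A) (fun x => by
    apply Subtype.ext
    rw [Subgroup.coe_pow]
    exact he x x.2) σ ⟨a, ha⟩
  have h1 : ∀ n : ℕ, (((fun c : ↥A => c⁻¹ * σ c)^[n] ⟨a, ha⟩ : ↥A) : B) =
      (fun y : B => y⁻¹ * z⁻¹ * y * z)^[n] a := by
    intro n
    induction n with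
    | zero => rfl
    | succ n ih =>
      rw [Function.iterate_succ_apply', Function.iterate_succ_apply', Subgroup.coe_mul,
        Subgroup.coe_inv, hσ, ih]
      simp only [mul_assoc]
  have h2 : ∀ n : ℕ, ((σ^[n] ⟨a, ha⟩ : ↥A) : B) = (z ^ n)⁻¹ * a * z ^ n := by
    intro n
    induction n with
    | zero => simp
    | succ n ih =>
      rw [Function.iterate_succ_apply', hσ, ih, pow_succ]
      group
  have h3 : ∀ (f : ℕ → ↥A) (n : ℕ), ((∏ i ∈ Finset.range n, f i : ↥A) : B) =
      ((List.range n).map (fun i => ((f i : ↥A) : B))).prod := by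
    intro f n
    induction n with
    | zero => simp
    | succ n ih =>
      rw [Finset.prod_range_succ, Subgroup.coe_mul, ih, List.range_succ, List.map_append,
        List.prod_append]
      simp
  rw [← h1, h, h3]
  congr 1
  apply List.map_congr_left
  intro i _
  exact h2 i

end Cfsg.Agent.Lib.Helper77
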