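import Mathlib
import Cfsg.Agent.S0999
import Cfsg.Agent.Lib.Helper6.PSLCard

/-!
# S0983, piece T4 (project of helper11; proved by helper77)

Large primes: if `p ≥ 17` divides `|G| < p ^ 3` and `3640 < |G| ≤ 6232` then `|G|` is `4080` or
`6072` (adapted from `Cfsg.Agent.S496.card_of_large_prime`).
-/

set_option autoImplicit false

namespace Cfsg.Agent.S983

theorem card_of_large_prime {G : Type*} [Group G] [Finite G] [IsSimpleGroup G]
    (hG : ¬ IsMulCommutative G) (p : ℕ) (hp : p.Prime) (h17 : 17 ≤ p) (hdvd : p ∣ Nat.card G)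
    (hbig : Nat.card G < p ^ 3) (h1 : 3640 < Nat.card G) (h2 : Nat.card G ≤ 6232) :
    Nat.card G = 4080 ∨ Nat.card G = 6072 := by
  have hcyc : ¬ IsCyclic G := fun hc =>
    hG ⟨⟨fun a b => (IsCyclic.commGroup (α := G)).mul_comm a b⟩⟩
  rcases Cfsg.Agent.S0999.result hcyc p hp hdvd hbig with
    ⟨F, _, _, hF, h3, ⟨e⟩⟩ | ⟨m, F, _, _, hF, hpm, h3, ⟨e⟩⟩
  · have hcard : Nat.card G = Nat.card (Matrix.ProjectiveSpecialLinearGroup (Fin 2) F) :=
      Nat.card_congr e.toEquiv
    have hpsl := Cfsg.Agent.Lib.Helper6.card_psl hF 2 (by norm_num)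
    rw [Fin.prod_univ_two, ← hcard] at hpsl
    simp only [Fin.val_zero, Fin.val_one, pow_zero, pow_one] at hpsl
    have hodd : p % 2 = 1 := by
      rcases hp.eq_two_or_odd with h2' | h2'
      · omega
      · exact h2'
    have hgcd : Nat.gcd 2 (p - 1) = 2 := by
      have : 2 ∣ p - 1 := by omega
      exact Nat.gcd_eq_left this
    rw [hgcd] at hpsl
    have hp28 : p ≤ 28 := by
      by_contra hlt
      have h29 : 29 ≤ p := by omega
      have e1 : p ^ 2 - p = p * (p - 1) := by
        rw [Nat.mul_sub, mul_one, sq]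
      have e2 : 840 ≤ p ^ 2 - 1 := by
        have : 29 * 29 ≤ p ^ 2 := by nlinarith
        omega
      rw [e1] at hpsl
      have hp1 : 0 < p - 1 := by omega
      have h5 : 2 * Nat.card G = (p ^ 2 - 1) * p := by
        have : (p - 1) * (2 * Nat.card G) = (p - 1) * ((p ^ 2 - 1) * p) := by
          calc (p - 1) * (2 * Nat.card G) = 2 * ((p - 1) * Nat.card G) := by ring
            _ = (p ^ 2 - 1) * (p * (p - 1)) := hpsl
            _ = (p - 1) * ((p ^ 2 - 1) * p) := by ring
        exact Nat.eq_of_mul_eq_mul_left hp1 this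
      have : 840 * 29 ≤ (p ^ 2 - 1) * p := Nat.mul_le_mul e2 h29
      omega
    interval_cases p
    all_goals first
      | (norm_num at hp; done)
      | (norm_num at hpsl; omega)
  · have hcard : Nat.card G = Nat.card (Matrix.ProjectiveSpecialLinearGroup (Fin 2) F) :=
      Nat.card_congr e.toEquiv
    have hpsl := Cfsg.Agent.Lib.Helper6.card_psl hF 2 (by norm_num)
    rw [Fin.prod_univ_two, ← hcard] at hpsl
    simp only [Fin.val_zero, Fin.val_one, pow_zero, pow_one] at hpsl
    have hm4 : 4 ≤ m := by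
      by_contra hlt
      have h3' : m ≤ 3 := by omega
      have h8 : 2 ^ m ≤ 2 ^ 3 := Nat.pow_le_pow_right (by norm_num) h3'
      omega
    have hq16' : 2 ^ 4 ≤ 2 ^ m := Nat.pow_le_pow_right (by norm_num) hm4
    have hqe' : 2 ∣ 2 ^ m := dvd_pow_self 2 (by omega)
    have hq32' : 5 ≤ m → 2 ^ 5 ≤ 2 ^ m := fun h => Nat.pow_le_pow_right (by norm_num) h
    have hq4' : m = 4 → 2 ^ m = 16 := fun h => by rw [h]; norm_num
    obtain ⟨q, hq⟩ : ∃ q : ℕ, q = 2 ^ m := ⟨_, rfl⟩
    rw [← hq] at hpsl hq16' hqe' hq32' hq4'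
    have hq1 : 0 < q - 1 := by omega
    have hgcd : Nat.gcd 2 (q - 1) = 1 :=
      (Nat.Prime.coprime_iff_not_dvd Nat.prime_two).mpr (by omega)
    rw [hgcd, one_mul] at hpsl
    have e1 : q ^ 2 - q = q * (q - 1) := by
      rw [Nat.mul_sub, mul_one, sq]
    rw [e1] at hpsl
    have h5 : Nat.card G = (q ^ 2 - 1) * q := by
      have : (q - 1) * Nat.card G = (q - 1) * ((q ^ 2 - 1) * q) := by
        rw [hpsl]; ring
      exact Nat.eq_of_mul_eq_mul_left hq1 this
    by_cases hm5 : 5 ≤ m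
    · have hq32 := hq32' hm5
      have e2 : 1023 ≤ q ^ 2 - 1 := by
        have : 32 * 32 ≤ q ^ 2 := by nlinarith
        omega
      have : 1023 * 32 ≤ (q ^ 2 - 1) * q := Nat.mul_le_mul e2 (by omega)
      omega
    · have hm : m = 4 := by omega
      left
      rw [h5, hq4' hm]
      norm_num

end Cfsg.Agent.S983
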