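import Mathlib

/-! S5965 piece ARITHSAME (helper77 for helper96): pure number theory. -/

set_option autoImplicit false
set_option linter.unusedVariables false

namespace Cfsg.Agent.Lib.Helper77.Sf

theorem h77_geom (y k : ℕ) : y * ∑ j ∈ Finset.range k, (y + 1) ^ j + 1 = (y + 1) ^ k := by
  induction k with
  | zero => simp
  | succ k ih =>
    rw [Finset.sum_range_succ, mul_add, pow_succ]
    have : y * ∑ j ∈ Finset.range k, (y + 1) ^ j + y * (y + 1) ^ k + 1 =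
        (y * ∑ j ∈ Finset.range k, (y + 1) ^ j + 1) + y * (y + 1) ^ k := by ring
    rw [this, ih]; ring

theorem h77_sub_one_mul (x k : ℕ) (hx : 1 ≤ x) :
    x ^ k - 1 = (x - 1) * ∑ j ∈ Finset.range k, x ^ j := by
  obtain ⟨y, rfl⟩ : ∃ y, x = y + 1 := ⟨x - 1, by omega⟩
  have := h77_geom y k
  rw [← this]; simp

theorem h77_not_dvd_T (q₀ k r : ℕ) (hr : r.Prime) (hrk : r ≠ k) (hk : k.Prime) (hq₀ : 2 ≤ q₀)
    (hord : orderOf (((q₀ ^ k : ℕ)) : ZMod r) = orderOf ((q₀ : ℕ) : ZMod r)) (m : ℕ) :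
    ¬ r ∣ ∑ j ∈ Finset.range k, (q₀ ^ m) ^ j := by
  have hrk' : ¬ r ∣ k := by
    intro h
    rcases (Nat.dvd_prime hk).1 h with h1 | h1
    · exact hr.one_lt.ne' h1
    · exact hrk h1
  by_cases hx : ((q₀ ^ m : ℕ) : ZMod r) = 1
  · intro h
    rw [← ZMod.natCast_eq_zero_iff] at h
    rw [Nat.cast_sum] at h
    have h2 : ∀ j ∈ Finset.range k, (((q₀ ^ m) ^ j : ℕ) : ZMod r) = 1 := by
      intro j _
      rw [Nat.cast_pow, hx, one_pow]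
    rw [Finset.sum_congr rfl h2] at h
    simp only [Finset.sum_const, Finset.card_range, nsmul_eq_mul, mul_one] at h
    exact hrk' ((ZMod.natCast_eq_zero_iff k r).1 h)
  · intro h
    apply hx
    have h1 : r ∣ (q₀ ^ m) ^ k - 1 := by
      rw [h77_sub_one_mul _ _ (Nat.one_le_pow _ _ (by omega))]
      exact Dvd.dvd.mul_left h _
    have h2 : (((q₀ ^ m) ^ k : ℕ) : ZMod r) = 1 := by
      have h3 := (ZMod.natCast_eq_zero_iff _ r).2 h1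
      rw [Nat.cast_sub (Nat.one_le_pow _ _ (Nat.one_le_pow _ _ (by omega)))] at h3
      rw [Nat.cast_one] at h3
      exact sub_eq_zero.1 h3
    have h4 : (((q₀ ^ k : ℕ)) : ZMod r) ^ m = 1 := by
      rw [← Nat.cast_pow, ← pow_mul, mul_comm k m, pow_mul]
      exact h2
    have h5 := orderOf_dvd_of_pow_eq_one h4
    rw [hord] at h5
    have h6 := orderOf_dvd_iff_pow_eq_one.1 h5
    rw [Nat.cast_pow]
    exact h6

-- PIECE ARITHSAME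
theorem not_dvd_same_order (q₀ k r n : ℕ) (hr : r.Prime) (hr2 : r ≠ 2) (hrk : r ≠ k)
    (hk : k.Prime) (hq₀ : 2 ≤ q₀) (hrq : ¬ r ∣ q₀)
    (hord : orderOf (((q₀ ^ k : ℕ)) : ZMod r) = orderOf ((q₀ : ℕ) : ZMod r)) (c : ℕ)
    (hc : c * ((q₀ ^ k - 1) * ∏ i : Fin n, (q₀ ^ n - q₀ ^ (i : ℕ))) =
      (q₀ - 1) * ∏ i : Fin n, ((q₀ ^ k) ^ n - (q₀ ^ k) ^ (i : ℕ))) : ¬ r ∣ c := by
  set T : ℕ → ℕ := fun m => ∑ j ∈ Finset.range k, (q₀ ^ m) ^ j with hT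
  have hq1 : ∀ m, 1 ≤ q₀ ^ m := fun m => Nat.one_le_pow _ _ (by omega)
  have ha : ∀ m, (q₀ ^ k) ^ m - 1 = (q₀ ^ m - 1) * T m := by
    intro m
    rw [← pow_mul, mul_comm k m, pow_mul]
    exact h77_sub_one_mul _ _ (hq1 m)
  have hb : ∀ m, ¬ r ∣ T m := fun m => h77_not_dvd_T q₀ k r hr hrk hk hq₀ hord m
  have e1 : ∏ i : Fin n, ((q₀ ^ k) ^ n - (q₀ ^ k) ^ (i : ℕ)) =
      (∏ i : Fin n, (q₀ ^ k) ^ (i : ℕ)) *
        ((∏ i : Fin n, (q₀ ^ (n - (i : ℕ)) - 1)) * ∏ i : Fin n, T (n - (i : ℕ))) := by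
    rw [← Finset.prod_mul_distrib, ← Finset.prod_mul_distrib]
    refine Finset.prod_congr rfl fun i _ => ?_
    rw [← ha, Nat.mul_sub, mul_one, ← pow_add, Nat.add_sub_cancel' i.2.le]
  have e2 : ∏ i : Fin n, (q₀ ^ n - q₀ ^ (i : ℕ)) =
      (∏ i : Fin n, q₀ ^ (i : ℕ)) * ∏ i : Fin n, (q₀ ^ (n - (i : ℕ)) - 1) := by
    rw [← Finset.prod_mul_distrib]
    refine Finset.prod_congr rfl fun i _ => ?_
    rw [Nat.mul_sub, mul_one, ← pow_add, Nat.add_sub_cancel' i.2.le]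
  have e3 : q₀ ^ k - 1 = (q₀ - 1) * T 1 := by
    have := ha 1
    simpa using this
  rw [e1, e2, e3] at hc
  have hPpos : 0 < (q₀ - 1) * ∏ i : Fin n, (q₀ ^ (n - (i : ℕ)) - 1) := by
    apply Nat.mul_pos (by omega)
    apply Finset.prod_pos
    intro i _
    have : 1 < q₀ ^ (n - (i : ℕ)) := Nat.one_lt_pow (by have := i.2; omega) (by omega)
    omega
  have key : c * T 1 * (∏ i : Fin n, q₀ ^ (i : ℕ)) *
        ((q₀ - 1) * ∏ i : Fin n, (q₀ ^ (n - (i : ℕ)) - 1)) =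
      (∏ i : Fin n, (q₀ ^ k) ^ (i : ℕ)) * (∏ i : Fin n, T (n - (i : ℕ))) *
        ((q₀ - 1) * ∏ i : Fin n, (q₀ ^ (n - (i : ℕ)) - 1)) := by
    calc _ = c * ((q₀ - 1) * T 1 * ((∏ i : Fin n, q₀ ^ (i : ℕ)) *
            ∏ i : Fin n, (q₀ ^ (n - (i : ℕ)) - 1))) := by ring
      _ = _ := hc
      _ = _ := by ring
  have key2 := Nat.eq_of_mul_eq_mul_right hPpos key
  intro hdvd
  have h1 : r ∣ (∏ i : Fin n, (q₀ ^ k) ^ (i : ℕ)) * (∏ i : Fin n, T (n - (i : ℕ))) := by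
    rw [← key2]
    exact Dvd.dvd.mul_right (Dvd.dvd.mul_right hdvd _) _
  rcases (Nat.Prime.dvd_mul hr).1 h1 with h2 | h2
  · obtain ⟨i, _, hi⟩ := (hr.prime.dvd_finsetProd_iff _).1 h2
    exact hrq (hr.dvd_of_dvd_pow (hr.dvd_of_dvd_pow hi))
  · obtain ⟨i, _, hi⟩ := (hr.prime.dvd_finsetProd_iff _).1 h2
    exact hb _ hi

end Cfsg.Agent.Lib.Helper77.Sf
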